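import Groth.Agent.KoszTwLib.Gen
import Groth.Agent.HilbObsLib.Ideal
import Groth.Agent.IdealMulLib.Basic
import Groth.Agent.LocFreeHomLib.Coherence
import Groth.Agent.SyzLib.Sheaf

/-!
# Stalks of the constructions in the twisted Koszul square
-/

set_option autoImplicit false
set_option backward.isDefEq.respectTransparency false
set_option linter.style.haveILetI false

universe u

open CategoryTheory CategoryTheory.Limits AlgebraicGeometry TopologicalSpace Opposite
open Groth.Agent.DCohLib Groth.Agent.PullbackMod Groth.Agent.ParaFLib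
open scoped TensorProduct

noncomputable section

namespace Groth.Agent.KoszTwistLib

variable {X : Scheme.{u}}

theorem comp_apply {A B C : X.Modules} (f : A ⟶ B) (g : B ⟶ C) (p : X) (z : A.presheaf.stalk p) :
    stalkLin (f ≫ g) p z = stalkLin g p (stalkLin f p z) := by
  rw [stalkLin_comp, LinearMap.comp_apply]

theorem zero_apply (A B : X.Modules) (p : X) (z : A.presheaf.stalk p) :
    stalkLin (0 : A ⟶ B) p z = 0 := by
  rw [(eq_zero_iff_stalk (0 : A ⟶ B)).mp rfl p]; rfl

section Pullback

variable {A B C : X.Modules} (f : A ⟶ C) (g : B ⟶ C) (p : X)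

theorem pullback_exists {a : A.presheaf.stalk p} {b : B.presheaf.stalk p}
    (h : stalkLin f p a = stalkLin g p b) :
    ∃ z, stalkLin (pullback.fst f g) p z = a ∧ stalkLin (pullback.snd f g) p z = b := by
  let D := biprod.desc f (-g)
  let v := stalkLin (biprod.inl : A ⟶ A ⊞ B) p a + stalkLin (biprod.inr : B ⟶ A ⊞ B) p b
  have hv : stalkLin D p v = 0 := by
    have e : stalkLin (-g) p b + stalkLin g p b = 0 := by
      have := zero_apply (A := B) (B := C) p b
      rw [← neg_add_cancel g] at this
      obtain ⟨U, hU, t, rfl⟩ := TopCat.Presheaf.exists_germ_eq B.presheaf b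
      rw [stalkLin_germ] at this ⊢
      rw [stalkLin_germ, ← map_add]
      exact this
    rw [map_add, ← comp_apply, ← comp_apply, biprod.inl_desc, biprod.inr_desc, h, add_comm, e]
  obtain ⟨w, hw⟩ := HilbObsLib.stalk_kernel_ι_exists D p hv
  have hcomm : (kernel.ι D ≫ biprod.fst) ≫ f = (kernel.ι D ≫ biprod.snd) ≫ g := by
    have h0 := kernel.condition D
    have h1 : kernel.ι D ≫ D = (kernel.ι D ≫ biprod.fst) ≫ f - (kernel.ι D ≫ biprod.snd) ≫ g := by
      conv_lhs => arg 2; rw [show D = biprod.fst ≫ f + biprod.snd ≫ (-g) from biprod.desc_eq]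
      rw [Preadditive.comp_add, Preadditive.comp_neg, Preadditive.comp_neg, Category.assoc, Category.assoc,
        sub_eq_add_neg]
    rw [h1, sub_eq_zero] at h0
    exact h0
  refine ⟨stalkLin (pullback.lift _ _ hcomm) p w, ?_, ?_⟩
  · rw [← comp_apply, pullback.lift_fst, comp_apply, hw, map_add, ← comp_apply, ← comp_apply,
      biprod.inl_fst, biprod.inr_fst, stalkLin_id, zero_apply, add_zero]
    rfl
  · rw [← comp_apply, pullback.lift_snd, comp_apply, hw, map_add, ← comp_apply, ← comp_apply,
      biprod.inl_snd, biprod.inr_snd, stalkLin_id, zero_apply, zero_add]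
    rfl

theorem pullback_ext {z z' : (pullback f g).presheaf.stalk p}
    (h1 : stalkLin (pullback.fst f g) p z = stalkLin (pullback.fst f g) p z')
    (h2 : stalkLin (pullback.snd f g) p z = stalkLin (pullback.snd f g) p z') : z = z' := by
  let l := biprod.lift (pullback.fst f g) (pullback.snd f g)
  haveI : Mono l := ⟨fun a b h => pullback.hom_ext
    (by simpa [l] using congr($h ≫ biprod.fst)) (by simpa [l] using congr($h ≫ biprod.snd))⟩
  refine (mono_iff_stalk l).1 inferInstance p ?_
  have key : ∀ y, stalkLin l p y = stalkLin (biprod.inl : A ⟶ A ⊞ B) p (stalkLin (pullback.fst f g) p y) +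
      stalkLin (biprod.inr : B ⟶ A ⊞ B) p (stalkLin (pullback.snd f g) p y) := fun y => by
    obtain ⟨U, hU, t, rfl⟩ := TopCat.Presheaf.exists_germ_eq (pullback f g).presheaf y
    rw [← comp_apply, ← comp_apply, stalkLin_germ, stalkLin_germ, stalkLin_germ, ← map_add,
      show l = pullback.fst f g ≫ biprod.inl + pullback.snd f g ≫ biprod.inr from biprod.lift_eq]
    rfl
  rw [key, key, h1, h2]

end Pullback

section Unit

variable (I : X.IdealSheafData) (M : X.Modules) (p : X)

/-- The canonical map to the restriction to the closed subscheme. -/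
abbrev resMap : M ⟶ (Scheme.Modules.pullback I.subschemeι ⋙ Scheme.Modules.pushforward I.subschemeι).obj M :=
  (Scheme.Modules.pullbackPushforwardAdjunction I.subschemeι).unit.app M

theorem resMap_eq_zero_iff (z : M.presheaf.stalk p) :
    stalkLin (resMap I M) p z = 0 ↔
      z ∈ IntMult.stalkIdeal I p • (⊤ : Submodule (X.presheaf.stalk p) (M.presheaf.stalk p)) := by
  rw [← IdealMulLib.range_stalk_idealMulι I M p, ← LinearMap.mem_ker, ← IdealMulLib.range_stalk_kernel]
  exact Iff.rfl

theorem resMap_surjective : Function.Surjective (stalkLin (resMap I M) p) := by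
  intro w
  by_cases hp : p ∈ Set.range I.subschemeι
  · obtain ⟨x, rfl⟩ := hp
    let i := I.subschemeι
    letI : Algebra (X.presheaf.stalk (i x)) (I.subscheme.presheaf.stalk x) := (i.stalkMap x).hom.toAlgebra
    let w' := pushStalk i ((Scheme.Modules.pullback i).obj M) x w
    obtain ⟨t, ht⟩ := (pullStalkEquiv i x M).surjective w'
    obtain ⟨z, hz⟩ : ∃ z, t = (1 : I.subscheme.presheaf.stalk x) ⊗ₜ z := by
      clear ht
      induction t using TensorProduct.induction_on with
      | zero => exact ⟨0, (TensorProduct.tmul_zero _ _).symm⟩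
      | tmul b m =>
        obtain ⟨a, rfl⟩ := i.stalkMap_surjective x b
        refine ⟨a • m, ?_⟩
        rw [TensorProduct.tmul_smul, TensorProduct.smul_tmul']
        congr 1
        show (i.stalkMap x) a = (i.stalkMap x) a * 1
        rw [mul_one]
      | add a b ha hb =>
        obtain ⟨z, rfl⟩ := ha
        obtain ⟨z', rfl⟩ := hb
        exact ⟨z + z', (TensorProduct.tmul_add _ _ _).symm⟩
    refine ⟨z, (bijective_pushStalk i _ x).1 ?_⟩
    refine (unit_stalk_pushStalk i M x z).trans ?_
    refine Eq.trans ?_ ht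
    rw [hz, pullStalkEquiv_tmul, one_smul]
  · haveI := subsingleton_stalk_pushforward I.subschemeι ((Scheme.Modules.pullback I.subschemeι).obj M) p hp
    exact ⟨0, @Subsingleton.elim _ (subsingleton_stalk_pushforward I.subschemeι
      ((Scheme.Modules.pullback I.subschemeι).obj M) p hp) _ _⟩

variable {I M p}

theorem resMap_eq_zero_iff_smul {x : X.presheaf.stalk p} (hx : IntMult.stalkIdeal I p = Ideal.span {x})
    (z : M.presheaf.stalk p) : stalkLin (resMap I M) p z = 0 ↔ ∃ u, z = x • u := by
  rw [resMap_eq_zero_iff, hx, Submodule.ideal_span_singleton_smul]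
  constructor
  · intro h
    obtain ⟨u, -, rfl⟩ := (Submodule.mem_smul_pointwise_iff_exists _ _ _).1 h
    exact ⟨u, rfl⟩
  · rintro ⟨u, rfl⟩
    exact Submodule.smul_mem_pointwise_smul u x ⊤ trivial

end Unit

section Homology

variable (K : ChainComplex X.Modules ℕ) (q : ℕ) (p : X)

theorem iCycles_injective : Function.Injective (stalkLin (K.iCycles q) p) :=
  (mono_iff_stalk _).1 inferInstance p

theorem iCycles_exists {u : (K.X q).presheaf.stalk p} {j : ℕ} (hj : (ComplexShape.down ℕ).next q = j)
    (h : stalkLin (K.d q j) p u = 0) : ∃ z, stalkLin (K.iCycles q) p z = u := by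
  obtain ⟨w, hw⟩ := HilbObsLib.stalk_kernel_ι_exists (K.d q j) p h
  refine ⟨stalkLin (K.liftCycles (kernel.ι (K.d q j)) j hj (kernel.condition _)) p w, ?_⟩
  rw [← comp_apply, HomologicalComplex.liftCycles_i, hw]

theorem homologyπ_surjective : Function.Surjective (stalkLin (K.homologyπ q) p) :=
  (epi_iff_stalk _).1 inferInstance p

theorem homologyπ_eq_zero_iff {z : (K.cycles q).presheaf.stalk p} :
    stalkLin (K.homologyπ q) p z = 0 ↔ ∃ w, stalkLin (K.toCycles (q + 1) q) p w = z := by
  let S := ShortComplex.mk _ _ (K.toCycles_comp_homologyπ (q + 1) q)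
  have hS : S.Exact := ShortComplex.exact_of_g_is_cokernel _
    (K.homologyIsCokernel (q + 1) q (ChainComplex.prev ℕ q))
  exact SyzLib.exact_stalkLin' S hS p z

end Homology

section Tensor

variable {M M' N N' : X.Modules} (p : X)

theorem tensorMap_germMul (f : M ⟶ M') (g : N ⟶ N') (a : M.presheaf.stalk p) (b : N.presheaf.stalk p) :
    stalkLin (KoszTw.tensorMap f g) p (germMul p a b) = germMul p (stalkLin f p a) (stalkLin g p b) := by
  show stalkLin (((DCoh.tensorBi (X := X)).map f).app N ≫ ((DCoh.tensorBi (X := X)).obj M').map g) p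
    (stalkTensor p M N (a ⊗ₜ b)) = stalkTensor p M' N' (stalkLin f p a ⊗ₜ stalkLin g p b)
  rw [comp_apply, stalkTensor_natural_left, LinearMap.rTensor_tmul, stalkTensor_natural_right,
    LinearMap.lTensor_tmul]

theorem runit_germMul (a : M.presheaf.stalk p) (r : X.presheaf.stalk p) :
    stalkLin (LocFreeHomLib.runitMap M) p (germMul p a (r • oneG p)) = r • a := by
  show stalkLin (LocFreeHomLib.runitMap M) p (stalkTensor p M _ (a ⊗ₜ (r • oneG p))) = r • a
  rw [TensorProduct.tmul_smul, map_smul, map_smul]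
  exact congrArg _ (LocFreeHomLib.runitMap_stalk M p a)

variable {L : X.Modules} (ι : L ⟶ Coh.structureModule X)

/-- The powers of a cosection. -/
def powι : ∀ q : ℕ, CohB1.tensorPow L q ⟶ Coh.structureModule X
  | 0 => 𝟙 _
  | q + 1 => KoszTw.tensorMap (powι q) ι ≫ LocFreeHomLib.runitMap (Coh.structureModule X)

theorem exists_gen_powι {x : X.presheaf.stalk p} {g₁ : L.presheaf.stalk p} (hg : KoszTwLib.IsGen L p g₁)
    (hι : stalkLin ι p g₁ = x • oneG p) :
    ∀ q : ℕ, ∃ g, KoszTwLib.IsGen (CohB1.tensorPow L q) p g ∧ stalkLin (powι ι q) p g = x ^ q • oneG p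
  | 0 => ⟨oneG p, bijective_oneG p, by
      show stalkLin (𝟙 _) p _ = _
      rw [stalkLin_id, pow_zero, one_smul]; rfl⟩
  | q + 1 => by
    obtain ⟨g, hg', hgq⟩ := exists_gen_powι hg hι q
    refine ⟨germMul p g g₁, KoszTwLib.isGen_germMul hg' hg, ?_⟩
    show stalkLin (KoszTw.tensorMap (powι ι q) ι ≫ LocFreeHomLib.runitMap (Coh.structureModule X)) p _ = _
    rw [comp_apply, tensorMap_germMul, hgq, hι]
    refine (runit_germMul p (x ^ q • oneG p) x).trans ?_
    rw [smul_smul, pow_succ']

/-- Multiplication by the powers of a cosection. -/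
def mulPow (M : X.Modules) (q : ℕ) : CohB1.tensorMod M (CohB1.tensorPow L q) ⟶ M :=
  KoszTw.tensorMap (𝟙 M) (powι ι q) ≫ LocFreeHomLib.runitMap M

theorem mulPow_germMul (q : ℕ) {g : (CohB1.tensorPow L q).presheaf.stalk p} {c : X.presheaf.stalk p}
    (hg : stalkLin (powι ι q) p g = c • oneG p) (a : M.presheaf.stalk p) :
    stalkLin (mulPow ι M q) p (germMul p a g) = c • a := by
  show stalkLin (KoszTw.tensorMap (𝟙 M) (powι ι q) ≫ LocFreeHomLib.runitMap M) p _ = _
  rw [comp_apply, tensorMap_germMul, hg, stalkLin_id]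
  exact runit_germMul p a c

theorem exists_gen_idealMod (I : X.IdealSheafData) {x : X.presheaf.stalk p}
    (hx : IntMult.stalkIdeal I p = Ideal.span {x}) (hnz : x ∈ nonZeroDivisors (X.presheaf.stalk p)) :
    ∃ g, KoszTwLib.IsGen (ClSub.idealMod I) p g ∧ stalkLin (ClSub.idealModι I) p g = x • oneG p := by
  obtain ⟨g, hg⟩ := (HilbObsLib.mem_range_idealModι I p x).2 (hx ▸ Ideal.mem_span_singleton_self x)
  haveI : Mono (ClSub.idealModι I) := inferInstanceAs (Mono (kernel.ι _))
  have hinj := (mono_iff_stalk (ClSub.idealModι I)).1 inferInstance p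
  refine ⟨g, ⟨fun r r' h => ?_, fun n => ?_⟩, hg⟩
  · have h1 : stalkLin (ClSub.idealModι I) p (r • g) = stalkLin (ClSub.idealModι I) p (r' • g) :=
      congrArg _ h
    rw [map_smul, map_smul, hg, smul_smul, smul_smul] at h1
    exact (mul_cancel_right_mem_nonZeroDivisors hnz).1 ((bijective_oneG p).1 h1)
  · obtain ⟨c, hc⟩ := (bijective_oneG p).2 (stalkLin (ClSub.idealModι I) p n)
    have hmem : c ∈ IntMult.stalkIdeal I p := (HilbObsLib.mem_range_idealModι I p c).1 ⟨n, hc.symm⟩
    rw [hx, Ideal.mem_span_singleton'] at hmem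
    obtain ⟨r, rfl⟩ := hmem
    refine ⟨r, hinj ?_⟩
    show stalkLin _ p (r • g) = _
    rw [map_smul, hg, smul_smul]
    exact hc

end Tensor

end Groth.Agent.KoszTwistLib
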