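import Groth.Agent.KoszShLib.LCI
import Groth.Agent.CMGraded.FlatCM

/-!
# Koszul cycles whose multiple by a regular element is a boundary
-/

set_option autoImplicit false

universe u v

open ExteriorAlgebra RingTheory.Sequence Groth.Agent.KoszShLib

namespace Groth.Agent.KoszTwistLib

variable {R : Type u} [CommRing R] {M : Type v} [AddCommGroup M] [Module R M] (φ : Module.Dual R M)
  {n : ℕ} (b : Module.Basis (Fin n) R M)

theorem ct_sub (φ' : Module.Dual R M) (z : ExteriorAlgebra R M) :
    ct (φ - φ') z = ct φ z - ct φ' z :=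
  congrArg (fun f : ExteriorAlgebra R M →ₗ[R] ExteriorAlgebra R M => f z)
    (map_sub (CliffordAlgebra.contractLeft (Q := (0 : QuadraticForm R M))) φ φ')

theorem descend_step {c : ℕ} (x : R) (hzero : ∀ i : Fin n, c ≤ (i : ℕ) → φ (b i) = 0)
    (hbase : ∀ (p : ℕ) (z w : ExteriorAlgebra R M), z ∈ spn b c ^ p → w ∈ spn b c ^ (p + 1) →
      ct φ z = 0 → x • z = ct φ w → ∃ w' ∈ spn b c ^ (p + 1), z = ct φ w') :
    ∀ k, c ≤ k → k ≤ n → ∀ (p : ℕ) (z w : ExteriorAlgebra R M), z ∈ spn b k ^ p → w ∈ spn b k ^ (p + 1) →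
      ct φ z = 0 → x • z = ct φ w → ∃ w' ∈ spn b k ^ (p + 1), z = ct φ w' := by
  intro k
  induction k with
  | zero =>
    intro hc _
    obtain rfl : c = 0 := by omega
    exact hbase
  | succ k ih =>
    intro hc hk p z w hz hw hdz hxz
    by_cases hck : c = k + 1
    · subst hck; exact hbase p z w hz hw hdz hxz
    have hck' : c ≤ k := by omega
    have hkn : k < n := hk
    set e := ι R (b ⟨k, hkn⟩) with he
    have hφ : φ (b ⟨k, hkn⟩) = 0 := hzero _ hck'
    have hde : ∀ t, ct φ (e * t) = -(e * ct φ t) := fun t => by rw [he, ct_ι_mul, hφ, zero_smul, zero_sub]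
    let ε : Module.Dual R M := b.coord ⟨k, hkn⟩
    have hεb : ε (b ⟨k, hkn⟩) = 1 := by simp [ε]
    have hεz : ∀ (m : ℕ) {t}, t ∈ spn b k ^ m → ct ε t = 0 := fun m t ht => by
      refine ct_eq_zero b k ε (fun i hi => ?_) m ht
      have : i ≠ ⟨k, hkn⟩ := fun h => by rw [h] at hi; exact lt_irrefl _ hi
      simp [ε, this]
    have uniq : ∀ (m m' : ℕ) {s t}, s ∈ spn b k ^ m → t ∈ spn b k ^ m' → s + e * t = 0 → s = 0 ∧ t = 0 := by
      intro m m' s t hs ht h
      have h' := congrArg (ct ε) h
      rw [map_add, map_zero, he, ct_ι_mul, hεz _ hs, hεz _ ht, hεb, one_smul, mul_zero, sub_zero, zero_add] at h'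
      exact ⟨by rwa [h', mul_zero, add_zero] at h, h'⟩
    obtain ⟨u, hu, v, hv, rfl⟩ := split_pow b k hkn p hw
    rw [map_add, hde] at hxz
    cases p with
    | zero =>
      rw [pow_zero] at hz
      have hz' : z ∈ spn b k ^ 0 := by rw [pow_zero]; exact hz
      have h0 : x • z - ct φ u + e * ct φ v = 0 := by rw [hxz]; abel
      have hdv : ct φ v = 0 := by
        obtain ⟨r, rfl⟩ := Submodule.mem_one.mp (pow_zero (spn b k) ▸ hv)
        exact CliffordAlgebra.contractLeft_algebraMap (0 : QuadraticForm R M) φ r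
      rw [hdv, mul_zero, add_zero, sub_eq_zero] at h0
      obtain ⟨w', hw', h⟩ := ih hck' hkn.le 0 z u hz' hu hdz h0
      exact ⟨w', pow_le_pow_left' (spn_mono b k) _ hw', h⟩
    | succ m =>
      obtain ⟨y, hy, z₂, hz₂, rfl⟩ := split_pow b k hkn m hz
      rw [map_add, hde, ← mul_neg] at hdz
      have hdz₂ : ct φ y = 0 ∧ ct φ z₂ = 0 := by
        cases m with
        | zero =>
          have hz0 : ct φ z₂ = 0 := by
            obtain ⟨r, rfl⟩ := Submodule.mem_one.mp (pow_zero (spn b k) ▸ hz₂)
            exact CliffordAlgebra.contractLeft_algebraMap (0 : QuadraticForm R M) φ r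
          rw [hz0, neg_zero, mul_zero, add_zero] at hdz
          exact ⟨hdz, hz0⟩
        | succ l =>
          obtain ⟨h1, h2⟩ := uniq _ _ (ct_mem_pow φ b k _ hy) (neg_mem (ct_mem_pow φ b k _ hz₂)) hdz
          exact ⟨h1, neg_eq_zero.1 h2⟩
      have h0 : (x • y - ct φ u) + e * (x • z₂ + ct φ v) = 0 := by
        rw [mul_add, mul_smul_comm]
        have : x • y + x • (e * z₂) = ct φ u + -(e * ct φ v) := by rw [← smul_add]; exact hxz
        calc x • y - ct φ u + (x • (e * z₂) + e * ct φ v)
            = (x • y + x • (e * z₂)) - (ct φ u + -(e * ct φ v)) := by abel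
          _ = 0 := by rw [this, sub_self]
      obtain ⟨h1, h2⟩ := uniq _ _ (sub_mem (Submodule.smul_mem _ _ hy) (ct_mem_pow φ b k _ hu))
        (add_mem (Submodule.smul_mem _ _ hz₂) (ct_mem_pow φ b k _ hv)) h0
      obtain ⟨u', hu', hyu⟩ := ih hck' hkn.le (m + 1) y u hy hu hdz₂.1 (sub_eq_zero.1 h1)
      obtain ⟨v', hv', hzv⟩ := ih hck' hkn.le m z₂ (-v) hz₂ (neg_mem hv) hdz₂.2 (by
        rw [map_neg]; exact eq_neg_of_add_eq_zero_left h2)
      refine ⟨u' - e * v', sub_mem (pow_le_pow_left' (spn_mono b k) _ hu') ?_, ?_⟩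
      · rw [pow_succ']
        exact Submodule.mul_mem_mul (ι_mem_spn b (Submodule.subset_span ⟨⟨k, hkn⟩, show k < k + 1 by omega, rfl⟩))
          (pow_le_pow_left' (spn_mono b k) _ hv')
      · rw [map_sub, hde, ← hyu, ← hzv]
        abel

/-- A cycle a regular multiple of which is a boundary is a boundary. -/
theorem exists_boundary_of_smul {c : ℕ} (hc : c ≤ n) (x : R) (hzero : ∀ i : Fin n, c ≤ (i : ℕ) → φ (b i) = 0)
    (hreg : IsWeaklyRegular R ((List.ofFn fun i : Fin c => φ (b (Fin.castLE hc i))) ++ [x]))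
    (q : ℕ) (z : ↥(⋀[R]^q M)) (w : ↥(⋀[R]^(q + 1) M))
    (hz : ct φ (z : ExteriorAlgebra R M) = 0) (hw : x • (z : ExteriorAlgebra R M) = ct φ (w : ExteriorAlgebra R M)) :
    ∃ w' : ↥(⋀[R]^(q + 1) M), (z : ExteriorAlgebra R M) = ct φ (w' : ExteriorAlgebra R M) := by
  classical
  have htop : spn b n = LinearMap.range (ι R : M →ₗ[R] ExteriorAlgebra R M) := by
    rw [spn, show b '' {i : Fin n | (i : ℕ) < n} = Set.range b by
      rw [show {i : Fin n | (i : ℕ) < n} = Set.univ from Set.eq_univ_of_forall fun i => i.2, Set.image_univ],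
      b.span_eq, Submodule.map_top]
  obtain ⟨hreg1, hreg2⟩ := (isWeaklyRegular_append_iff R _ [x]).1 hreg
  let φ' : Module.Dual R M := b.constr R fun i => if (i : ℕ) < c then φ (b i) else 1
  have hφ' : ∀ i : Fin n, (i : ℕ) < c → φ' (b i) = φ (b i) := fun i hi => (b.constr_basis R _ i).trans (if_pos hi)
  have hagree : ∀ (p : ℕ) {t}, t ∈ spn b c ^ p → ct φ' t = ct φ t := fun p t ht => by
    rw [← sub_eq_zero, ← ct_sub]
    exact ct_eq_zero b c (φ' - φ) (fun i hi => by simp [hφ' i hi]) p ht
  have hregφ' : IsWeaklyRegular R (List.ofFn fun i => φ' (b i)) := by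
    obtain ⟨d, rfl⟩ := Nat.exists_eq_add_of_le hc
    have e : (List.ofFn fun i => φ' (b i)) =
        (List.ofFn fun i : Fin c => φ (b (Fin.castLE hc i))) ++ List.replicate d 1 := by
      rw [List.ofFn_add, List.ofFn_eq_map (f := fun j : Fin d => φ' (b (Fin.natAdd c j)))]
      refine congrArg₂ (· ++ ·) (congrArg List.ofFn (funext fun i => hφ' _ i.2)) ?_
      rw [← List.ofFn_eq_map, ← List.ofFn_const]
      refine congrArg List.ofFn (funext fun j => ?_)
      exact (b.constr_basis R _ _).trans (if_neg (by simp))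
    rw [e]
    refine (isWeaklyRegular_append_iff R _ _).2 ⟨hreg1, ?_⟩
    cases d with
    | zero => exact IsWeaklyRegular.nil R _
    | succ d =>
      rw [List.replicate_succ, isWeaklyRegular_cons_iff']
      refine ⟨fun a a' h => by simpa using h, ?_⟩
      rw [isWeaklyRegular_iff_Fin]
      intro i a a' _
      haveI : Subsingleton (QuotSMulTop (1 : R) (R ⧸ Ideal.ofList (List.ofFn fun i : Fin c => φ (b (Fin.castLE hc i))) • (⊤ : Submodule R R))) := by
        refine Submodule.Quotient.subsingleton_iff.2 ?_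
        rw [eq_top_iff]
        intro t _
        exact Submodule.mem_smul_pointwise_iff_exists _ _ _ |>.2 ⟨t, trivial, one_smul _ _⟩
      obtain ⟨a, rfl⟩ := Submodule.Quotient.mk_surjective _ a
      obtain ⟨a', rfl⟩ := Submodule.Quotient.mk_surjective _ a'
      exact congrArg _ (Subsingleton.elim a a')
  have hxreg : ∀ r : R, x * r ∈ Ideal.span (Set.range fun i : Fin c => φ (b (Fin.castLE hc i))) →
      r ∈ Ideal.span (Set.range fun i : Fin c => φ (b (Fin.castLE hc i))) := by
    intro r hr
    have h := ((isWeaklyRegular_singleton_iff _ x).1 hreg2)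
    have e : Ideal.ofList (List.ofFn fun i : Fin c => φ (b (Fin.castLE hc i))) • (⊤ : Submodule R R) =
        Ideal.span (Set.range fun i : Fin c => φ (b (Fin.castLE hc i))) := by
      rw [smul_eq_mul, Ideal.mul_top, Ideal.ofList]
      refine congrArg Ideal.span ?_
      ext t
      simp [List.mem_ofFn]
    rw [← e] at hr ⊢
    rw [← Submodule.Quotient.mk_eq_zero] at hr ⊢
    exact h.right_eq_zero_of_smul (by rw [← Submodule.Quotient.mk_smul]; exact hr)
  have hbase : ∀ (p : ℕ) (z w : ExteriorAlgebra R M), z ∈ spn b c ^ p → w ∈ spn b c ^ (p + 1) →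
      ct φ z = 0 → x • z = ct φ w → ∃ w' ∈ spn b c ^ (p + 1), z = ct φ w' := by
    intro p z w hz hw hdz hxz
    cases p with
    | succ p =>
      obtain ⟨w', hw', h⟩ := exists_boundary φ' b hregφ' c hc p hz (by rw [hagree _ hz, hdz])
      exact ⟨w', hw', by rw [← h, hagree _ hw']⟩
    | zero =>
      rw [pow_zero] at hz
      obtain ⟨r, rfl⟩ := Submodule.mem_one.mp hz
      rw [zero_add, pow_one] at hw ⊢
      obtain ⟨v, hv, rfl⟩ := hw
      rw [ct_ι, Algebra.smul_def, Algebra.smul_def, mul_one, ← map_mul] at hxz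
      have h0 : x * r = φ v := (ExteriorAlgebra.algebraMap_leftInverse M).injective hxz
      have himg : Submodule.map φ (Submodule.span R (b '' {i : Fin n | (i : ℕ) < c})) =
          Ideal.span (Set.range fun i : Fin c => φ (b (Fin.castLE hc i))) := by
        rw [Submodule.map_span, ← Set.image_comp]
        refine congrArg (Submodule.span R) ?_
        ext t
        simp only [Set.mem_image, Set.mem_range, Function.comp_apply, Set.mem_ofPred_eq]
        exact ⟨fun ⟨i, hi, h⟩ => ⟨⟨i, hi⟩, h⟩, fun ⟨i, h⟩ => ⟨Fin.castLE hc i, i.2, h⟩⟩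
      have hr := hxreg r (by rw [h0, ← himg]; exact Submodule.mem_map_of_mem hv)
      rw [← himg] at hr
      obtain ⟨v', hv', rfl⟩ := hr
      exact ⟨ι R v', ι_mem_spn b hv', by rw [ct_ι, Algebra.smul_def, mul_one]⟩
  obtain ⟨w', hw', h⟩ := descend_step φ b x hzero hbase n hc le_rfl q z.1 w.1
    (by rw [htop]; exact z.2) (by rw [htop]; exact w.2) hz hw
  exact ⟨⟨w', by rw [htop] at hw'; exact hw'⟩, h⟩

end Groth.Agent.KoszTwistLib

namespace Groth.Agent.KoszTwistLib

open IsLocalRing

variable {R : Type u} [CommRing R]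

/-- Regular local rings are Cohen-Macaulay. -/
theorem isCM_of_regular [IsRegularLocalRing R] : LocCoh.IsCohenMacaulayLocalRing R := by
  obtain ⟨d, hd⟩ := RegLocal.exists_nat_ringKrullDim R
  obtain ⟨x, hx⟩ := RegLocal.exists_generators R
  have hd' : (maximalIdeal R).spanFinrank = d := by
    exact_mod_cast (IsRegularLocalRing.spanFinrank_maximalIdeal (R := R)).trans hd
  have hreg := RegLocal.isRegular_of_generators _ (by rw [hd']; exact hd) x hx
  refine CMGraded.isCohenMacaulayLocalRing_of_seq (rs := List.ofFn x) ?_ hreg.toIsWeaklyRegular ?_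
  · intro r hr
    obtain ⟨i, rfl⟩ := List.mem_ofFn.1 hr
    exact hx ▸ Ideal.subset_span (Set.mem_range_self i)
  · exact le_of_eq (by rw [hd, List.length_ofFn, hd'])

theorem length_le_height [IsLocalRing R] [IsNoetherianRing R] {rs : List R} (h : IsWeaklyRegular R rs) :
    (rs.length : ℕ∞) ≤ (Ideal.ofList rs).height := by
  rw [Ideal.height_eq_inf_minimalPrimes]
  refine le_iInf₂ fun Q hQ => ?_
  haveI : Q.IsPrime := hQ.1.1
  have hw : IsWeaklyRegular (Localization.AtPrime Q) (rs.map (algebraMap R (Localization.AtPrime Q))) := h.of_flat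
  have h' := CMGraded.length_le_ringKrullDim (fun r hr => by
    obtain ⟨a, ha, rfl⟩ := List.mem_map.1 hr
    exact (IsLocalization.AtPrime.to_map_mem_maximal_iff _ Q a).2 (hQ.1.2 (Ideal.subset_span ha))) hw
  rw [IsLocalization.AtPrime.ringKrullDim_eq_height Q, List.length_map] at h'
  exact_mod_cast h'

/-- Generators of a complete intersection ideal and an element off its components. -/
theorem exists_regular_subset [LocCoh.IsCohenMacaulayLocalRing R] [IsNoetherianRing R] {n : ℕ} (y : Fin n → R)
    (x : R) (fs : List R) (hfs : IsWeaklyRegular R fs) (hJ : Ideal.span (Set.range y) = Ideal.ofList fs)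
    (hJm : Ideal.span (Set.range y) ≤ maximalIdeal R)
    (hx : ∀ Q ∈ (Ideal.span (Set.range y)).minimalPrimes, x ∉ Q) :
    ∃ (c : ℕ) (σ : Fin c → Fin n), Function.Injective σ ∧
      Ideal.span (Set.range (y ∘ σ)) = Ideal.span (Set.range y) ∧
      IsWeaklyRegular R (List.ofFn (y ∘ σ) ++ [x]) := by
  classical
  set J := Ideal.span (Set.range y) with hJdef
  -- a minimal generating subfamily
  obtain ⟨s, hs, hsmin⟩ : ∃ s : Finset (Fin n), Ideal.span (y '' s) = J ∧
      ∀ t : Finset (Fin n), Ideal.span (y '' t) = J → s.card ≤ t.card := by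
    have hex : ∃ m, ∃ s : Finset (Fin n), Ideal.span (y '' s) = J ∧ s.card = m :=
      ⟨_, Finset.univ, by simp [hJdef], rfl⟩
    obtain ⟨s, hs, hcard⟩ := Nat.find_spec hex
    exact ⟨s, hs, fun t ht => hcard.le.trans (Nat.find_min' hex ⟨t, ht, rfl⟩)⟩
  obtain ⟨s', hs', hs'card⟩ : ∃ t : Finset (Fin n), Ideal.span (y '' t) = J ∧ t.card ≤ fs.length := by
    -- a basis of `J / mJ` among the generators
    let K := R ⧸ maximalIdeal R
    let N : Submodule R ↥J := maximalIdeal R • ⊤
    let V := ↥J ⧸ N
    letI : Field K := Ideal.Quotient.field _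
    haveI : Module.IsTorsionBySet R V (maximalIdeal R : Set R) := fun v a => by
      obtain ⟨v, rfl⟩ := Submodule.Quotient.mk_surjective _ v
      rw [← Submodule.Quotient.mk_smul, Submodule.Quotient.mk_eq_zero]
      exact Submodule.smul_mem_smul a.2 trivial
    letI : Module K V := Module.IsTorsionBySet.module (R := R) (M := V) (I := maximalIdeal R) ‹_›
    haveI : IsScalarTower R K V := Module.IsTorsionBySet.isScalarTower _
    let yJ : Fin n → ↥J := fun i => ⟨y i, Ideal.subset_span ⟨i, rfl⟩⟩
    let v : Fin n → V := fun i => Submodule.Quotient.mk (yJ i)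
    obtain ⟨b, -, -, hbspan, hbli⟩ := exists_linearIndepOn_extension (linearIndepOn_empty K v) (Set.empty_subset Set.univ)
    have htop : ∀ (t : Set ↥J), (Submodule.span R t).map J.subtype = J → Submodule.span R t = ⊤ := fun t ht =>
      Submodule.map_injective_of_injective J.injective_subtype (by rw [ht, Submodule.map_top, Submodule.range_subtype])
    have hyJ : Submodule.span R (Set.range yJ) = ⊤ := htop _ (by
      rw [Submodule.map_span, ← Set.range_comp]; rfl)
    have hbV : Submodule.span K (v '' b) = ⊤ := by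
      rw [eq_top_iff]
      rintro w -
      obtain ⟨w, rfl⟩ := Submodule.Quotient.mk_surjective _ w
      have hw : w ∈ Submodule.span R (Set.range yJ) := hyJ ▸ Submodule.mem_top
      induction hw using Submodule.span_induction with
      | mem a ha => obtain ⟨i, rfl⟩ := ha; exact hbspan ⟨i, trivial, rfl⟩
      | zero => exact zero_mem _
      | add a c _ _ ha hc => rw [Submodule.Quotient.mk_add]; exact add_mem ha hc
      | smul r a _ ha =>
        rw [Submodule.Quotient.mk_smul, ← IsScalarTower.algebraMap_smul K r]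
        exact Submodule.smul_mem _ _ ha
    let g : Fin fs.length → V := fun j => Submodule.Quotient.mk
      (⟨fs[(j : ℕ)], hJ.ge (Ideal.subset_span (List.getElem_mem j.2))⟩ : ↥J)
    have hgV : Submodule.span K (Set.range g) = ⊤ := by
      let fJ : Fin fs.length → ↥J := fun j => ⟨fs[(j : ℕ)], hJ.ge (Ideal.subset_span (List.getElem_mem j.2))⟩
      have hfJ : Submodule.span R (Set.range fJ) = ⊤ := htop _ (by
        rw [Submodule.map_span, ← Set.range_comp]
        refine Eq.trans ?_ hJ.symm
        refine congrArg (Submodule.span R) ?_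
        ext a
        simp only [Set.mem_range, Function.comp_apply, Set.mem_ofPred_eq, List.mem_iff_getElem]
        exact ⟨fun ⟨j, h⟩ => ⟨j, j.2, h⟩, fun ⟨j, hj, h⟩ => ⟨⟨j, hj⟩, h⟩⟩)
      rw [eq_top_iff]
      rintro w -
      obtain ⟨w, rfl⟩ := Submodule.Quotient.mk_surjective _ w
      have hw : w ∈ Submodule.span R (Set.range fJ) := hfJ ▸ Submodule.mem_top
      induction hw using Submodule.span_induction with
      | mem a ha => obtain ⟨j, rfl⟩ := ha; exact Submodule.subset_span ⟨j, rfl⟩
      | zero => exact zero_mem _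
      | add a c _ _ ha hc => rw [Submodule.Quotient.mk_add]; exact add_mem ha hc
      | smul r a _ ha =>
        rw [Submodule.Quotient.mk_smul, ← IsScalarTower.algebraMap_smul K r]
        exact Submodule.smul_mem _ _ ha
    haveI : Module.Finite K V := ⟨⟨(Set.finite_range g).toFinset, by rw [Set.Finite.coe_toFinset, hgV]⟩⟩
    refine ⟨b.toFinite.toFinset, ?_, ?_⟩
    · refine le_antisymm (Ideal.span_mono (Set.image_subset_range _ _)) ?_
      have hN : (⊤ : Submodule R ↥J) ≤ Submodule.span R (yJ '' b) ⊔ maximalIdeal R • ⊤ := by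
        intro w _
        have hw : (Submodule.Quotient.mk w : V) ∈ Submodule.span K (v '' b) := hbV ▸ Submodule.mem_top
        have hres : ∀ u ∈ Submodule.span K (v '' b), ∃ a ∈ Submodule.span R (yJ '' b), Submodule.Quotient.mk a = u := by
          intro u hu
          induction hu using Submodule.span_induction with
          | mem u hu => obtain ⟨i, hi, rfl⟩ := hu; exact ⟨_, Submodule.subset_span ⟨i, hi, rfl⟩, rfl⟩
          | zero => exact ⟨0, zero_mem _, rfl⟩
          | add u u' _ _ h h' =>
            obtain ⟨a, ha, rfl⟩ := h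
            obtain ⟨a', ha', rfl⟩ := h'
            exact ⟨a + a', add_mem ha ha', Submodule.Quotient.mk_add _⟩
          | smul r u _ h =>
            obtain ⟨a, ha, rfl⟩ := h
            obtain ⟨r, rfl⟩ := Ideal.Quotient.mk_surjective r
            refine ⟨r • a, Submodule.smul_mem _ _ ha, ?_⟩
            rw [Submodule.Quotient.mk_smul]
            exact (IsScalarTower.algebraMap_smul K r _).symm
        obtain ⟨a, ha, hau⟩ := hres _ hw
        rw [Submodule.Quotient.eq] at hau
        have := Submodule.sub_mem_sup ha hau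
        rwa [sub_sub_cancel] at this
      have hgen := Submodule.le_of_le_smul_of_le_jacobson_bot (Module.Finite.fg_top (R := R) (M := ↥J))
        (IsLocalRing.maximalIdeal_le_jacobson _) hN
      intro a ha
      have := Submodule.mem_map_of_mem (f := J.subtype) (hgen (Submodule.mem_top (x := (⟨a, ha⟩ : ↥J))))
      rw [Submodule.map_span, ← Set.image_comp] at this
      rw [Set.Finite.coe_toFinset]
      exact this
    · have hcard : b.toFinite.toFinset.card = Module.finrank K V := by
        have hli : LinearIndependent K fun i : b => v i := hbli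
        haveI : Fintype b := b.toFinite.fintype
        let B : Module.Basis b K V := Module.Basis.mk hli (by
          rw [show (Set.range fun i : b => v i) = v '' b by ext; simp, hbV])
        rw [Module.finrank_eq_card_basis B, Set.Finite.card_toFinset]
      rw [hcard, ← finrank_top K V, ← hgV]
      exact (finrank_range_le_card g).trans_eq (Fintype.card_fin _)
  have hsc : s.card ≤ fs.length := (hsmin s' hs').trans hs'card
  let σ : Fin s.card → Fin n := fun i => (s.equivFin.symm i).1
  have hrange : Set.range (y ∘ σ) = y '' s := by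
    ext a
    simp only [Set.mem_range, Function.comp_apply, Set.mem_image, σ]
    exact ⟨fun ⟨i, h⟩ => ⟨_, (s.equivFin.symm i).2, h⟩, fun ⟨k, hk, h⟩ => ⟨s.equivFin ⟨k, hk⟩, by simpa using h⟩⟩
  have hspan : Ideal.span (Set.range (y ∘ σ)) = J := by rw [hrange, hs]
  have hlist : Ideal.ofList (List.ofFn (y ∘ σ)) = J := by
    rw [← hspan, Ideal.ofList]
    exact congrArg Ideal.span (Set.ext fun a => by simp [List.mem_ofFn])
  have hJht : (s.card : ℕ∞) ≤ J.height := by
    refine le_trans ?_ ((length_le_height hfs).trans_eq (by rw [hJ]))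
    exact_mod_cast hsc
  have hys : ∀ r ∈ List.ofFn (y ∘ σ), r ∈ maximalIdeal R := fun r hr => hJm (hlist ▸ Ideal.subset_span hr)
  refine ⟨s.card, σ, fun i j h => s.equivFin.symm.injective (Subtype.ext h), hspan, ?_⟩
  by_cases hxm : x ∈ maximalIdeal R
  · refine weaklyRegular_of_height _ (fun r hr => ?_) ?_
    · rcases List.mem_append.1 hr with h | h
      · exact hys r h
      · rw [List.mem_singleton.1 h]; exact hxm
    · rw [List.length_append, List.length_ofFn, List.length_singleton, Ideal.ofList_append, hlist,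
        Ideal.ofList_singleton, Nat.cast_add, Nat.cast_one]
      conv_rhs => rw [Ideal.height_eq_inf_minimalPrimes]
      refine le_iInf₂ fun Q hQ => ?_
      haveI : Q.IsPrime := hQ.1.1
      obtain ⟨P, hP, hPQ⟩ := Ideal.exists_minimalPrimes_le (le_sup_left.trans hQ.1.2 : J ≤ Q)
      haveI : P.IsPrime := hP.1.1
      have hlt : P < Q := lt_of_le_of_ne hPQ fun h => hx P hP (h ▸ hQ.1.2 (le_sup_right (a := J) (Ideal.mem_span_singleton_self x)))
      refine le_trans ?_ (Ideal.height_add_one_le_of_lt_of_isPrime hlt)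
      exact add_le_add (hJht.trans (Ideal.height_mono hP.1.2)) le_rfl
  · refine (isWeaklyRegular_append_iff R _ _).2 ⟨weaklyRegular_of_height _ hys ?_, ?_⟩
    · rw [List.length_ofFn, hlist]; exact hJht
    · exact (isWeaklyRegular_singleton_iff _ x).2 (IsUnit.isSMulRegular _ (not_not.1 hxm))

end Groth.Agent.KoszTwistLib
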