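import Groth.Agent.KoszTwistLib.Local
import Groth.Agent.KoszTwistLib.Split
import Groth.Agent.KoszShLib.SectionRes
import Groth.Agent.RegIdealLib.Immersion
import Groth.Agent.ASp.GeomRedEt
import Groth.Prelude.Def_RegImm

/-!
# Torsion of Koszul homology along a divisor meeting a local complete intersection properly
-/

set_option autoImplicit false
set_option backward.isDefEq.respectTransparency false
set_option linter.style.haveILetI false
set_option maxHeartbeats 1600000

universe u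

open CategoryTheory CategoryTheory.Limits AlgebraicGeometry TopologicalSpace Opposite RingTheory.Sequence IsLocalRing
open Groth.Agent.DCohLib Groth.Agent.PullbackMod Groth.Agent.ParaFLib Groth.Agent.KoszShLib

noncomputable section

namespace Groth.Agent.KoszTwistLib

/-- Coordinates in which a cosection vanishes on all but the first vectors. -/
theorem exists_adapted {A : Type u} [CommRing A] {n c : ℕ} (y : Fin n → A) (σ : Fin c → Fin n)
    (hσ : Function.Injective σ) (hc : c ≤ n) (hspan : ∀ k, y k ∈ Ideal.span (Set.range (y ∘ σ))) :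
    ∃ b : Module.Basis (Fin n) A (Fin n → A),
      (∀ i : Fin c, Fintype.linearCombination A y (b (Fin.castLE hc i)) = y (σ i)) ∧
      ∀ i : Fin n, c ≤ (i : ℕ) → Fintype.linearCombination A y (b i) = 0 := by
  classical
  obtain ⟨e, he⟩ := Equiv.Perm.exists_extending_pair (Fin.castLE hc) σ (Fin.castLE_injective hc) hσ
  choose a ha using fun k => (Ideal.mem_span_range_iff_exists_fun).1 (hspan k)
  let bb : Module.Basis (Fin n) A (Fin n → A) := (Pi.basisFun A (Fin n)).reindex e.symm
  let φ := Fintype.linearCombination A y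
  have hbb : ∀ i, φ (bb i) = y (e i) := fun i => by
    simp [φ, bb, Fintype.linearCombination_apply_single]
  let N : (Fin n → A) →ₗ[A] (Fin n → A) := bb.constr A fun k =>
    if (k : ℕ) < c then 0 else -∑ j : Fin c, a (e k) j • bb (Fin.castLE hc j)
  have hN0 : ∀ j : Fin c, N (bb (Fin.castLE hc j)) = 0 := fun j =>
    (bb.constr_basis A _ _).trans (if_pos j.2)
  have hNN : ∀ v, N (N v) = 0 := by
    refine fun v => LinearMap.congr_fun (bb.ext (f₁ := N ∘ₗ N) (f₂ := 0) fun k => ?_) v
    show N (N (bb k)) = 0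
    rw [show N (bb k) = _ from bb.constr_basis A _ k]
    split_ifs
    · exact map_zero N
    · simp [map_sum, hN0]
  let T : (Fin n → A) ≃ₗ[A] (Fin n → A) := LinearEquiv.ofLinearMap (LinearMap.id + N) (LinearMap.id - N)
    (LinearMap.ext fun v => by simp [hNN]) (LinearMap.ext fun v => by simp [hNN])
  refine ⟨bb.map T, fun i => ?_, fun k hk => ?_⟩
  · show φ (bb (Fin.castLE hc i) + N (bb (Fin.castLE hc i))) = _
    rw [hN0, add_zero, hbb, he]
  · show φ (bb k + N (bb k)) = 0
    rw [show N (bb k) = _ from bb.constr_basis A _ k, if_neg (not_lt.2 hk), map_add, map_neg, map_sum, hbb]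
    simp only [map_smul, hbb, he, smul_eq_mul]
    rw [← sub_eq_add_neg, sub_eq_zero]
    exact (ha (e k)).symm

variable {X : Scheme.{u}} [IsLocallyNoetherian X] {n : ℕ} (IY : Fin n → X.IdealSheafData)
  (hY : ∀ i, BlowUp.IsEffCartierIdeal (IY i)) (ID : X.IdealSheafData) (hD : BlowUp.IsEffCartierIdeal ID)

theorem ideal_iSup_span (V : X.affineOpens) (y : Fin n → Γ(X, V.1)) (hy : ∀ i, (IY i).ideal V = Ideal.span {y i}) :
    (⨆ i, IY i).ideal V = Ideal.span (Set.range y) := by
  rw [Scheme.IdealSheafData.ideal_iSup, iSup_apply, Ideal.span, Submodule.span_range_eq_iSup]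
  exact iSup_congr hy

include hD in
/-- The points of zero dimension of the intersection are the minimal primes of its ideal. -/
theorem notMem_of_minimal
    (hZD : ∀ z : ↥(⨆ i, IY i).subscheme, ringKrullDim ((⨆ i, IY i).subscheme.presheaf.stalk z) = 0 →
      (⨆ i, IY i).subschemeι.base z ∉ Set.range ID.subschemeι.base)
    (V : X.affineOpens) {x : Γ(X, V.1)} (hx : ID.ideal V = Ideal.span {x}) (q : Ideal Γ(X, V.1))
    (hq : q ∈ ((⨆ i, IY i).ideal V).minimalPrimes) : x ∉ q := by
  intro hxq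
  haveI : q.IsPrime := hq.1.1
  let I := ⨆ i, IY i
  let pt : X := V.2.fromSpec ⟨q, ‹_›⟩
  have hptV : pt ∈ V.1 := V.2.range_fromSpec.le ⟨_, rfl⟩
  have hPq : (V.2.primeIdealOf ⟨pt, hptV⟩).asIdeal = q := by
    rw [show V.2.primeIdealOf ⟨pt, hptV⟩ = (⟨q, ‹_›⟩ : PrimeSpectrum Γ(X, V.1)) from
      V.2.fromSpec.isOpenEmbedding.injective (V.2.fromSpec_primeIdealOf ⟨pt, hptV⟩)]
  letI : Algebra Γ(X, V.1) (X.presheaf.stalk pt) := TopCat.Presheaf.algebra_section_stalk X.presheaf ⟨pt, hptV⟩
  haveI := V.2.isLocalization_stalk ⟨pt, hptV⟩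
  have hmem : ∀ (K : X.IdealSheafData), K.ideal V ≤ q → pt ∈ Set.range K.subschemeι.base := by
    intro K hK
    rw [Scheme.IdealSheafData.range_subschemeι]
    refine (Scheme.IdealSheafData.mem_support_iff_of_mem hptV).2 ((Scheme.mem_zeroLocus_iff _ _ _).2 fun f hf hfu => ?_)
    have h1 : IsUnit (algebraMap Γ(X, V.1) (X.presheaf.stalk pt) f) := (X.mem_basicOpen f pt hptV).1 hfu
    exact ((IsLocalization.AtPrime.isUnit_to_map_iff (X.presheaf.stalk pt) (V.2.primeIdealOf ⟨pt, hptV⟩).asIdeal f).1 h1)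
      (hPq.ge (hK hf))
  obtain ⟨w, hw⟩ := hmem I hq.1.2
  refine hZD w ?_ (hw ▸ hmem ID (by rw [hx, Ideal.span_singleton_le_iff_mem]; exact hxq))
  -- the local ring has a single prime
  haveI : Ring.KrullDimLE 0 (I.subscheme.presheaf.stalk w) := by
    refine Ring.KrullDimLE.mk₀ fun P hP => ?_
    have hwV : I.subschemeι w ∈ V.1 := hw ▸ hptV
    letI : Algebra Γ(X, V.1) (X.presheaf.stalk (I.subschemeι w)) :=
      TopCat.Presheaf.algebra_section_stalk X.presheaf ⟨_, hwV⟩
    haveI := V.2.isLocalization_stalk ⟨_, hwV⟩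
    let pw := (V.2.primeIdealOf ⟨I.subschemeι w, hwV⟩).asIdeal
    have hpw : pw = q := by
      rw [← hPq]
      exact congrArg (fun a : V.1 => (V.2.primeIdealOf a).asIdeal) (Subtype.ext hw)
    have key : ∀ P : Ideal (I.subscheme.presheaf.stalk w), P.IsPrime →
        ((P.comap (I.subschemeι.stalkMap w).hom).comap (algebraMap Γ(X, V.1) _)) = pw := by
      intro P hP
      let P' := P.comap (I.subschemeι.stalkMap w).hom
      haveI : P'.IsPrime := Ideal.IsPrime.comap _
      have h1 : P'.comap (algebraMap Γ(X, V.1) _) ≤ pw := by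
        intro t ht
        by_contra htp
        exact Ideal.IsPrime.ne_top ‹P'.IsPrime› (Ideal.eq_top_of_isUnit_mem _ ht
          (IsLocalization.map_units (M := pw.primeCompl) (X.presheaf.stalk (I.subschemeι w)) ⟨t, htp⟩))
      have h2 : I.ideal V ≤ P'.comap (algebraMap Γ(X, V.1) _) := by
        intro t ht
        show (I.subschemeι.stalkMap w).hom (algebraMap _ _ t) ∈ P
        have : algebraMap Γ(X, V.1) (X.presheaf.stalk (I.subschemeι w)) t ∈ RingHom.ker (I.subschemeι.stalkMap w).hom := by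
          rw [IdealStalkLib.ker_stalkMap_subschemeι, IdealStalkLib.stalkIdeal_eq I V _ hwV]
          exact Ideal.mem_map_of_mem _ ht
        rw [RingHom.mem_ker.1 this]
        exact zero_mem _
      exact le_antisymm h1 (hpw ▸ hq.2 ⟨Ideal.IsPrime.comap _, h2⟩ (hpw ▸ h1))
    have heq : ∀ P : Ideal (I.subscheme.presheaf.stalk w), P.IsPrime → P = maximalIdeal _ := by
      intro P hP
      haveI := hP
      refine Ideal.comap_injective_of_surjective _ (I.subschemeι.stalkMap_surjective w) ?_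
      exact (IsLocalization.map_comap pw.primeCompl (X.presheaf.stalk (I.subschemeι w)) (P.comap _)).symm.trans
        ((congrArg (Ideal.map _) ((key P hP).trans (key (maximalIdeal _) inferInstance).symm)).trans
          (IsLocalization.map_comap pw.primeCompl (X.presheaf.stalk (I.subschemeι w)) _))
    rw [heq P hP]
    infer_instance
  exact le_antisymm (by simpa [Ring.krullDimLE_iff] using (inferInstance : Ring.KrullDimLE 0 (I.subscheme.presheaf.stalk w)))
    ringKrullDim_nonneg_of_nontrivial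

variable (hreg : ∀ p : X, IsRegularLocalRing (X.presheaf.stalk p))
  (hZ : RegImm.IsRegularImmersion RegImm.Kind.regular (⨆ i, IY i).subschemeι)
  (hZD : ∀ z : ↥(⨆ i, IY i).subscheme, ringKrullDim ((⨆ i, IY i).subscheme.presheaf.stalk z) = 0 →
    (⨆ i, IY i).subschemeι.base z ∉ Set.range ID.subschemeι.base)

include hY hD hreg hZ hZD in
/-- Around every point the equations can be replaced by a regular sequence to which `x` may be appended. -/
theorem exists_regular_chart (p : X) (W : X.Opens) (hpW : p ∈ W) :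
    ∃ (V : X.affineOpens) (x : Γ(X, V.1)) (y : Fin n → Γ(X, V.1)) (c : ℕ) (σ : Fin c → Fin n),
      V.1 ≤ W ∧ p ∈ V.1 ∧ x ∈ nonZeroDivisors Γ(X, V.1) ∧ ID.ideal V = Ideal.span {x} ∧
      (∀ i, y i ∈ nonZeroDivisors Γ(X, V.1)) ∧ (∀ i, (IY i).ideal V = Ideal.span {y i}) ∧
      Function.Injective σ ∧ (∀ k, y k ∈ Ideal.span (Set.range (y ∘ σ))) ∧
      IsWeaklyRegular Γ(X, V.1) (List.ofFn (y ∘ σ) ++ [x]) := by
  classical
  obtain ⟨V₀, hVW, hpV, hV⟩ := exists_isPrin_all (Fin.cons (α := fun _ => X.IdealSheafData) ID IY)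
    (Fin.cases (by simpa using hD) fun i => by simpa using hY i) p W hpW
  obtain ⟨x, hx, hxI⟩ : IsPrin ID V₀ := hV 0
  choose y hy hyI using fun i => (show IsPrin (IY i) V₀ from hV i.succ)
  haveI : IsNoetherianRing Γ(X, V₀.1) := IsLocallyNoetherian.component_noetherian V₀
  let pi := (V₀.2.primeIdealOf ⟨p, hpV⟩).asIdeal
  letI : Algebra Γ(X, V₀.1) (X.presheaf.stalk p) := TopCat.Presheaf.algebra_section_stalk X.presheaf ⟨p, hpV⟩
  haveI hloc := V₀.2.isLocalization_stalk ⟨p, hpV⟩
  let R := X.presheaf.stalk p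
  let al : Γ(X, V₀.1) →+* R := algebraMap Γ(X, V₀.1) R
  let yR : Fin n → R := fun i => al (y i)
  have hJmap : ((⨆ i, IY i).ideal V₀).map al = Ideal.span (Set.range yR) := by
    rw [ideal_iSup_span IY V₀ y hyI, Ideal.map_span, ← Set.range_comp]
    rfl
  -- the data at the point
  obtain ⟨c, σ, hσ, hspanR, hwR⟩ : ∃ (c : ℕ) (σ : Fin c → Fin n), Function.Injective σ ∧
      Ideal.span (Set.range (yR ∘ σ)) = Ideal.span (Set.range yR) ∧
      IsWeaklyRegular R (List.ofFn (yR ∘ σ) ++ [al x]) := by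
    by_cases hJ : Ideal.span (Set.range yR) ≤ maximalIdeal R
    · haveI := hreg p
      haveI := isCM_of_regular (R := R)
      obtain ⟨z, hz⟩ : p ∈ Set.range (⨆ i, IY i).subschemeι.base := by
        rw [Scheme.IdealSheafData.range_subschemeι]
        refine (Scheme.IdealSheafData.mem_support_iff_of_mem hpV).2 ((Scheme.mem_zeroLocus_iff _ _ _).2 fun f hf hfu => ?_)
        exact (hJ (hJmap ▸ Ideal.mem_map_of_mem al hf)) ((X.mem_basicOpen f p hpV).1 hfu)
      obtain ⟨U, hzU, hcl, rs, hrs, hker⟩ := hZ.2 z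
      subst hz
      have hJfs : Ideal.span (Set.range yR) =
          Ideal.ofList (rs.map (X.presheaf.germ U.1 _ hzU).hom) := by
        rw [← hJmap, ← Ideal.map_ofList, ← hker, ← RegIdealLib.ker_stalkMap _ U.2 hcl z hzU,
          IdealStalkLib.ker_stalkMap_subschemeι, IdealStalkLib.stalkIdeal_eq _ V₀ _ hpV]
        rfl
      have hfs : IsWeaklyRegular R (rs.map (X.presheaf.germ U.1 _ hzU).hom) := by
        letI : Algebra Γ(X, U.1) R := TopCat.Presheaf.algebra_section_stalk X.presheaf ⟨_, hzU⟩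
        haveI := U.2.isLocalization_stalk ⟨_, hzU⟩
        haveI : Module.Flat Γ(X, U.1) R := IsLocalization.flat _ (U.2.primeIdealOf ⟨_, hzU⟩).asIdeal.primeCompl
        exact hrs.toIsWeaklyRegular.of_flat
      refine exists_regular_subset yR (al x) _ hfs hJfs hJ fun Q hQ hxQ => ?_
      haveI : Q.IsPrime := hQ.1.1
      refine notMem_of_minimal IY ID hD hZD V₀ hxI (Q.comap al) ⟨⟨Ideal.IsPrime.comap al, ?_⟩, ?_⟩ hxQ
      · exact Ideal.map_le_iff_le_comap.1 (hJmap ▸ hQ.1.2)
      · rintro q ⟨hqp, hJq⟩ hqQ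
        haveI := hqp
        have hdisj : Disjoint (pi.primeCompl : Set Γ(X, V₀.1)) (q : Set Γ(X, V₀.1)) :=
          Set.disjoint_left.2 fun t ht htq => Ideal.IsPrime.ne_top ‹Q.IsPrime› (Ideal.eq_top_of_isUnit_mem _ (hqQ htq)
            (IsLocalization.map_units (M := pi.primeCompl) R ⟨t, ht⟩))
        have hqR : (q.map al).IsPrime := IsLocalization.isPrime_of_isPrime_disjoint pi.primeCompl R q hqp hdisj
        have := hQ.2 ⟨hqR, hJmap ▸ Ideal.map_mono hJq⟩ (Ideal.map_le_iff_le_comap.2 hqQ)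
        refine (Ideal.comap_mono this).trans ?_
        exact le_of_eq (IsLocalization.comap_map_of_isPrime_disjoint pi.primeCompl R hqp hdisj)
    · obtain ⟨i, hi⟩ : ∃ i, IsUnit (yR i) := by
        by_contra h
        push Not at h
        refine hJ (Ideal.span_le.2 ?_)
        rintro _ ⟨i, rfl⟩
        exact h i
      refine ⟨1, fun _ => i, fun a b _ => Subsingleton.elim a b, ?_, ?_⟩
      · have h1 : Ideal.span (Set.range (yR ∘ fun _ : Fin 1 => i)) = ⊤ :=
          Ideal.eq_top_of_isUnit_mem _ (Ideal.subset_span ⟨0, rfl⟩) hi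
        have h2 : Ideal.span (Set.range yR) = ⊤ := Ideal.eq_top_of_isUnit_mem _ (Ideal.subset_span ⟨i, rfl⟩) hi
        rw [h1, h2]
      · simp only [List.ofFn_succ, List.ofFn_zero, List.cons_append, List.nil_append]
        exact weaklyRegular_of_unit_head _ hi _
  -- spreading the span out
  have hs : ∀ k, ∃ s ∉ pi, s * y k ∈ Ideal.span (Set.range (y ∘ σ)) := fun k => by
    have h : al (y k) ∈ (Ideal.span (Set.range (y ∘ σ))).map al := by
      rw [Ideal.map_span, ← Set.range_comp, show al ∘ y ∘ σ = yR ∘ σ from rfl, hspanR]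
      exact Ideal.subset_span ⟨k, rfl⟩
    obtain ⟨s, hs, hsy⟩ := (IsLocalization.algebraMap_mem_map_algebraMap_iff pi.primeCompl R _ _).1 h
    exact ⟨s, hs, hsy⟩
  choose s hs hsy using hs
  obtain ⟨g, hg, hgreg⟩ := exists_weaklyRegular_away pi R (List.ofFn (y ∘ σ) ++ [x]) (by
    rw [List.map_append, List.map_ofFn, List.map_singleton]
    exact hwR)
  have hG : g * ∏ k, s k ∉ pi := fun h => by
    rcases (V₀.2.primeIdealOf ⟨p, hpV⟩).isPrime.mem_or_mem h with h | h
    · exact hg h
    · obtain ⟨k, -, hk⟩ := Ideal.IsPrime.prod_mem_iff.1 h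
      exact hs k hk
  let G := g * ∏ k, s k
  let ρ : Γ(X, V₀.1) →+* Γ(X, X.basicOpen G) := (X.presheaf.map (homOfLE (X.basicOpen_le G)).op).hom
  have hpG : p ∈ X.basicOpen G :=
    (X.mem_basicOpen G p hpV).2 (IsLocalization.map_units R (⟨G, hG⟩ : pi.primeCompl))
  letI : Algebra Γ(X, V₀.1) Γ(X, X.basicOpen G) := ρ.toAlgebra
  haveI : IsLocalization.Away G Γ(X, X.basicOpen G) :=
    V₀.2.isLocalization_of_eq_basicOpen G (homOfLE (X.basicOpen_le G)) rfl
  have hGu : IsUnit (ρ G) := IsLocalization.Away.algebraMap_isUnit G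
  refine ⟨X.affineBasicOpen (U := V₀) G, ρ x, fun i => ρ (y i), c, σ, (X.basicOpen_le G).trans hVW, hpG,
    IsLocalization.map_nonZeroDivisors_le (Submonoid.powers G) Γ(X, X.basicOpen G) ⟨x, hx, rfl⟩, ?_, fun i =>
    IsLocalization.map_nonZeroDivisors_le (Submonoid.powers G) Γ(X, X.basicOpen G) ⟨y i, hy i, rfl⟩, fun i => ?_,
    hσ, fun k => ?_, ?_⟩
  · rw [← ID.map_ideal_basicOpen V₀ G, hxI, Ideal.map_span, Set.image_singleton]
    rfl
  · rw [← (IY i).map_ideal_basicOpen V₀ G, hyI i, Ideal.map_span, Set.image_singleton]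
    rfl
  · have hu : IsUnit (ρ (s k)) := isUnit_of_dvd_unit (map_dvd ρ ((Finset.dvd_prod_of_mem s (Finset.mem_univ k)).mul_left g)) hGu
    have := Ideal.mem_map_of_mem ρ (hsy k)
    rw [Ideal.map_span, ← Set.range_comp, map_mul] at this
    exact (Ideal.unit_mul_mem_iff_mem _ hu).1 this
  · -- regularity on the smaller open
    let T := Localization.Away g
    have hgu : IsUnit (ρ g) := isUnit_of_dvd_unit (map_dvd ρ (Dvd.intro _ rfl)) hGu
    letI : Algebra T Γ(X, X.basicOpen G) := (IsLocalization.Away.lift (S := T) g hgu).toAlgebra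
    haveI : IsScalarTower Γ(X, V₀.1) T Γ(X, X.basicOpen G) :=
      IsScalarTower.of_algebraMap_eq fun a => (IsLocalization.Away.lift_eq (S := T) g hgu a).symm
    haveI : Module.Flat Γ(X, V₀.1) Γ(X, X.basicOpen G) := IsLocalization.flat _ (Submonoid.powers G)
    haveI : Module.Flat T Γ(X, X.basicOpen G) := (Module.flat_iff_of_isLocalization T (Submonoid.powers g) _).2 inferInstance
    have h := (hgreg T).of_flat (S := Γ(X, X.basicOpen G))
    rw [List.map_map, List.map_append, List.map_ofFn, List.map_singleton] at h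
    show IsWeaklyRegular Γ(X, X.basicOpen G) (List.ofFn ((fun i => ρ (y i)) ∘ σ) ++ [ρ x])
    convert h using 1
    · refine congrArg₂ (· ++ ·) (congrArg List.ofFn (funext fun i => ?_)) ?_
      · exact (IsScalarTower.algebraMap_apply Γ(X, V₀.1) T Γ(X, X.basicOpen G) (y (σ i)))
      · exact congrArg (fun a => [a]) (IsScalarTower.algebraMap_apply Γ(X, V₀.1) T Γ(X, X.basicOpen G) x)

include hY hD hreg hZ hZD in
/-- The Koszul homology has no torsion along the divisor. -/
theorem isSMulRegular_homology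
    (C : KoszSh.Cx (∐ fun i => ClSub.idealMod (IY i)) (Limits.Sigma.desc fun i => ClSub.idealModι (IY i)))
    (q : ℕ) (p : X) (x : X.presheaf.stalk p) (hxI : IntMult.stalkIdeal ID p = Ideal.span {x}) :
    IsSMulRegular ((C.K.homology q).presheaf.stalk p) x := by
  classical
  obtain ⟨U, hpU, x₀, hx₀, hI₀⟩ := hD p
  have hx₀' : IntMult.stalkIdeal ID p = Ideal.span {X.presheaf.germ U.1 p hpU x₀} := by
    rw [IdealStalkLib.stalkIdeal_eq ID U p hpU, hI₀, Ideal.map_span, Set.image_singleton]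
  obtain ⟨r, hr⟩ := Ideal.mem_span_singleton'.1 (hxI.symm.trans hx₀' ▸ Ideal.mem_span_singleton_self _ :
    X.presheaf.germ U.1 p hpU x₀ ∈ Ideal.span {x})
  rw [isSMulRegular_iff_right_eq_zero_of_smul]
  intro h hh
  have hh₀ : X.presheaf.germ U.1 p hpU x₀ • h = 0 := by rw [← hr, mul_smul, hh, smul_zero]
  obtain ⟨z, rfl⟩ := homologyπ_surjective C.K q p h
  rw [← map_smul] at hh₀
  obtain ⟨w, hw⟩ := (homologyπ_eq_zero_iff C.K q p).1 hh₀
  have hw' : stalkLin (C.K.d (q + 1) q) p w =
      X.presheaf.germ U.1 p hpU x₀ • stalkLin (C.K.iCycles q) p z := by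
    rw [← map_smul, ← hw, ← comp_apply, HomologicalComplex.toCycles_i]
  obtain ⟨W₁, hpW₁, tz, htz⟩ := TopCat.Presheaf.exists_germ_eq (C.K.cycles q).presheaf z
  obtain ⟨W₂, hpW₂, tw, htw⟩ := TopCat.Presheaf.exists_germ_eq (C.K.X (q + 1)).presheaf w
  let W₀ := W₁ ⊓ W₂ ⊓ U.1
  have h1 : W₀ ≤ W₁ := inf_le_left.trans inf_le_left
  have h2 : W₀ ≤ W₂ := inf_le_left.trans inf_le_right
  have h3 : W₀ ≤ U.1 := inf_le_right
  have hp₀ : p ∈ W₀ := ⟨⟨hpW₁, hpW₂⟩, hpU⟩
  let zs : Γ(C.K.X q, W₀) := (C.K.iCycles q).app W₀ ((C.K.cycles q).presheaf.map (homOfLE h1).op tz)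
  let ws : Γ(C.K.X (q + 1), W₀) := (C.K.X (q + 1)).presheaf.map (homOfLE h2).op tw
  let xs : Γ(X, W₀) := X.presheaf.map (homOfLE h3).op x₀
  have hgs : ∀ (M : X.Modules) (V : X.Opens) (hp : p ∈ V) (r : Γ(X, V)) (t : Γ(M, V)),
      M.presheaf.germ V p hp (r • t) = X.presheaf.germ V p hp r • M.presheaf.germ V p hp t :=
    fun M V hp r t => PresheafOfModules.germ_smul (R := X.presheaf) M.val p V hp r t
  have hzs : (C.K.X q).presheaf.germ W₀ p hp₀ zs = stalkLin (C.K.iCycles q) p z := by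
    rw [← stalkLin_germ, TopCat.Presheaf.germ_res_apply, htz]
  have hws : (C.K.X (q + 1)).presheaf.germ W₀ p hp₀ ws = w := by
    rw [TopCat.Presheaf.germ_res_apply, htw]
  obtain ⟨W', hW', i, i', heq⟩ := TopCat.Presheaf.germ_eq (C.K.X q).presheaf p hp₀ hp₀
    (xs • zs) ((C.K.d (q + 1) q).app W₀ ws) (by
      rw [hgs, hzs, TopCat.Presheaf.germ_res_apply, ← stalkLin_germ, hws, hw'])
  obtain ⟨V, x', y, c, σ, hVW', hpV, hx', hxV, hy, hyV, hσ, hspan, hwreg⟩ :=
    exists_regular_chart IY hY ID hD hreg hZ hZD p W' hW'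
  have hVW₀ : V.1 ≤ W₀ := hVW'.trans i.le
  let zV := (C.K.X q).presheaf.map (homOfLE hVW₀).op zs
  let wV := (C.K.X (q + 1)).presheaf.map (homOfLE hVW₀).op ws
  let xV := X.presheaf.map (homOfLE hVW₀).op xs
  have heqV : xV • zV = (C.K.d (q + 1) q).app V.1 wV := by
    have h := congrArg ((C.K.X q).presheaf.map (homOfLE hVW').op) heq
    rw [show i' = i from Subsingleton.elim _ _, ← ConcreteCategory.comp_apply, ← ConcreteCategory.comp_apply,
      ← (C.K.X q).presheaf.map_comp, show i.op ≫ (homOfLE hVW').op = (homOfLE hVW₀).op from Subsingleton.elim _ _,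
      Scheme.Modules.map_smul] at h
    exact h.trans (app_res (C.K.d (q + 1) q) hVW₀ ws).symm
  -- change to the generator of the chart
  have hxV₀ : ID.ideal V = Ideal.span {xV} := by
    rw [← Scheme.IdealSheafData.map_ideal ID (show V.1 ≤ U.1 from hVW₀.trans h3), hI₀, Ideal.map_span,
      Set.image_singleton, show xV = _ from (ConcreteCategory.comp_apply _ _ x₀).symm, ← X.presheaf.map_comp]
    rfl
  obtain ⟨r', hr'⟩ := Ideal.mem_span_singleton'.1 (hxV.symm.trans hxV₀ ▸ Ideal.mem_span_singleton_self x' :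
    x' ∈ Ideal.span {xV})
  have heqV' : x' • zV = (C.K.d (q + 1) q).app V.1 (r' • wV) := by
    rw [Scheme.Modules.Hom.app_smul, ← heqV, ← hr', mul_smul]
  -- a basis adapted to the regular sequence
  have hc : c ≤ n := by simpa using Fintype.card_le_of_injective σ hσ
  obtain ⟨b, hb1, hb2⟩ := exists_adapted y σ hσ hc hspan
  choose g hg using fun i => (OmegaAffLib.mem_range_idealSect (IY i) V (y i)).1
    (hyV i ▸ Ideal.mem_span_singleton_self (y i))
  let e : ∀ i, Γ(X, V.1) ≃ₗ[Γ(X, V.1)] Γ(ClSub.idealMod (IY i), V.1) := fun i =>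
    LinearEquiv.ofBijective (LinearMap.toSpanSingleton Γ(X, V.1) _ (g i)) ⟨fun a a' h => by
      have h2 := congrArg (OmegaSh.idealSect (IY i) V.1) h
      rw [LinearMap.toSpanSingleton_apply, LinearMap.toSpanSingleton_apply, OmegaAffLib.idealSect_smul,
        OmegaAffLib.idealSect_smul, hg] at h2
      exact (mul_cancel_right_mem_nonZeroDivisors (hy i)).1 h2, fun t => by
      have h2 := (OmegaAffLib.mem_range_idealSect (IY i) V _).2 ⟨t, rfl⟩
      rw [hyV i, Ideal.mem_span_singleton'] at h2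
      obtain ⟨a, ha⟩ := h2
      refine ⟨a, OmegaAffLib.idealSect_injective (IY i) V.1 ?_⟩
      rw [LinearMap.toSpanSingleton_apply, OmegaAffLib.idealSect_smul, hg]
      exact ha⟩
  let S := sectEquiv (fun i => ClSub.idealMod (IY i)) V.1
  let T : (Fin n → Γ(X, V.1)) ≃ₗ[Γ(X, V.1)] Γ(∐ fun i => ClSub.idealMod (IY i), V.1) :=
    LinearEquiv.piCongrRight e ≪≫ₗ S.symm
  let φ := KoszSh.secForm (Limits.Sigma.desc fun i => ClSub.idealModι (IY i)) V.1
  have hφT : ∀ v, φ (T v) = Fintype.linearCombination Γ(X, V.1) y v := fun v => by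
    show φ (∑ i, (Sigma.ι (fun i => ClSub.idealMod (IY i)) i).app V.1 (v i • g i)) = _
    rw [map_sum, Fintype.linearCombination_apply]
    refine Finset.sum_congr rfl fun i _ => ?_
    rw [Scheme.Modules.Hom.app_smul, map_smul]
    refine congrArg (v i • ·) (Eq.trans ?_ (hg i))
    exact congrArg (fun f : ClSub.idealMod (IY i) ⟶ Coh.structureModule X => OmegaSh.fnSect X V.1 (f.app V.1 (g i))) (Sigma.ι_desc (fun i => ClSub.idealModι (IY i)) i)
  let bE := b.map T
  have hzero : ∀ i : Fin n, c ≤ (i : ℕ) → φ (bE i) = 0 := fun i hi => (hφT (b i)).trans (hb2 i hi)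
  have hregE : IsWeaklyRegular Γ(X, V.1) ((List.ofFn fun i : Fin c => φ (bE (Fin.castLE hc i))) ++ [x']) := by
    convert hwreg using 4
    exact (hφT _).trans (hb1 _)
  -- conclusion on sections
  obtain ⟨w', hw''⟩ : ∃ w' : Γ(C.K.X (q + 1), V.1), (C.K.d (q + 1) q).app V.1 w' = zV := by
    have hdz : ct φ ↑(C.loc q V zV) = 0 := by
      cases q with
      | zero =>
        have hm : (↑(C.loc 0 V zV) : ExteriorAlgebra Γ(X, V.1) Γ(∐ fun i => ClSub.idealMod (IY i), V.1)) ∈
            spn bE n ^ 0 := by rw [pow_zero]; simpa using (C.loc 0 V zV).2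
        rw [pow_zero] at hm
        obtain ⟨t, ht⟩ := Submodule.mem_one.mp hm
        rw [← ht]
        exact CliffordAlgebra.contractLeft_algebraMap (0 : QuadraticForm _ _) φ t
      | succ m =>
        rw [← coe_loc_d C m V zV]
        have : (C.K.d (m + 1) m).app V.1 zV = 0 := by
          rw [show (C.K.d (m + 1) m).app V.1 zV = _ from app_res (C.K.d (m + 1) m) hVW₀ zs]
          have h0 : (C.K.d (m + 1) m).app W₀ zs = 0 :=
            congrArg (fun f => f.app W₀ ((C.K.cycles (m + 1)).presheaf.map (homOfLE h1).op tz))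
              (HomologicalComplex.iCycles_d C.K (m + 1) m)
          rw [h0, map_zero]
        rw [this, map_zero, Submodule.coe_zero]
    obtain ⟨w', hw'⟩ := exists_boundary_of_smul φ bE hc x' hzero hregE q (C.loc q V zV) (C.loc (q + 1) V (r' • wV))
      hdz (by rw [← coe_loc_d C q V, ← heqV', map_smul, Submodule.coe_smul])
    refine ⟨(C.loc (q + 1) V).symm w', (C.loc q V).injective (Subtype.ext ?_)⟩
    rw [hw', coe_loc_d, LinearEquiv.apply_symm_apply]
  refine (homologyπ_eq_zero_iff C.K q p).2 ⟨(C.K.X (q + 1)).presheaf.germ V.1 p hpV w', ?_⟩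
  refine iCycles_injective C.K q p ?_
  rw [← comp_apply, HomologicalComplex.toCycles_i, stalkLin_germ, hw'', TopCat.Presheaf.germ_res_apply, hzs]

end Groth.Agent.KoszTwistLib
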