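import Groth.Agent.KoszTwistLib.Main
import Groth.Agent.KoszShLib.Resolution
import Groth.Agent.OmegaAffLib.Ideal
import Groth.Agent.BlowExistsLib.Chart
import Groth.Agent.BlowCompLib.Compose
import Groth.Agent.DCohLib.TensorPerf
import Groth.Agent.CurveLib.MaxSections
import Groth.Agent.S8914
import Groth.Agent.S15900

/-!
# The Koszul complex of twisted divisors
-/

set_option autoImplicit false
set_option backward.isDefEq.respectTransparency false
set_option linter.style.haveILetI false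
set_option maxHeartbeats 1600000

universe u

open CategoryTheory CategoryTheory.Limits AlgebraicGeometry TopologicalSpace Opposite
open Groth.Agent.DCohLib Groth.Agent.PullbackMod Groth.Agent.ParaFLib Groth.Agent.KoszShLib

noncomputable section

namespace Groth.Agent.KoszTwistLib

variable {X : Scheme.{u}}

/-- The ideal is generated by a non-zero-divisor on the affine open. -/
def IsPrin (I : X.IdealSheafData) (U : X.affineOpens) : Prop :=
  ∃ f, f ∈ nonZeroDivisors Γ(X, U.1) ∧ I.ideal U = Ideal.span {f}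

theorem isPrin_basicOpen {I : X.IdealSheafData} {U : X.affineOpens} (h : IsPrin I U) (r : Γ(X, U.1)) :
    IsPrin I (X.affineBasicOpen (U := U) r) := by
  obtain ⟨f, hf, hI⟩ := h
  exact RelDivLib.generator_res I U r hf hI

theorem isPrin_eq {I : X.IdealSheafData} {U V : X.affineOpens} (h : IsPrin I U) (e : U = V) : IsPrin I V := e ▸ h

theorem exists_isPrin_le {I : X.IdealSheafData} {U : X.affineOpens} (h : IsPrin I U) (W : X.Opens) {p : X}
    (hpU : p ∈ U.1) (hpW : p ∈ W) : ∃ V : X.affineOpens, V.1 ≤ W ∧ p ∈ V.1 ∧ IsPrin I V := by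
  obtain ⟨t, ht, hpt⟩ := U.2.exists_basicOpen_le (V := W) ⟨p, hpW⟩ hpU
  exact ⟨X.affineBasicOpen (U := U) t, ht, hpt, isPrin_basicOpen h t⟩

theorem exists_isPrin_all {m : ℕ} (I : Fin m → X.IdealSheafData) (hI : ∀ i, BlowUp.IsEffCartierIdeal (I i))
    (p : X) (W : X.Opens) (hpW : p ∈ W) : ∃ V : X.affineOpens, V.1 ≤ W ∧ p ∈ V.1 ∧ ∀ i, IsPrin (I i) V := by
  induction m with
  | zero =>
    obtain ⟨_, ⟨V, hV, rfl⟩, hpV, hVW⟩ := X.isBasis_affineOpens.exists_subset_of_mem_open hpW W.2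
    exact ⟨⟨V, hV⟩, hVW, hpV, fun i => i.elim0⟩
  | succ m ih =>
    obtain ⟨V, hVW, hpV, hV⟩ := ih (fun i => I i.castSucc) fun i => hI _
    obtain ⟨U, hpU, f, hf, hU⟩ := hI (Fin.last m) p
    obtain ⟨U', hU'V, hpU', hU'⟩ := exists_isPrin_le (I := I (Fin.last m)) ⟨f, hf, hU⟩ V.1 hpU hpV
    obtain ⟨a, b, hab, hpa⟩ := exists_basicOpen_le_affine_inter V.2 U'.2 p ⟨hpV, hpU'⟩
    refine ⟨X.affineBasicOpen (U := V) a, (X.basicOpen_le a).trans hVW, hpa,
      Fin.lastCases ?_ fun i => isPrin_basicOpen (hV i) a⟩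
    exact isPrin_eq (isPrin_basicOpen hU' b) (Subtype.ext hab.symm)

theorem isEffCartier_mul {A B : X.IdealSheafData} (hA : BlowUp.IsEffCartierIdeal A)
    (hB : BlowUp.IsEffCartierIdeal B) : BlowUp.IsEffCartierIdeal (A * B) :=
  BlowCompLib.isEffCartier_mul hA hB

section IdealSections

variable (A B : X.IdealSheafData)

theorem idealMul_ι_comp : ClSub.idealModι (A * B) ≫ ClSub.toSubscheme A = 0 := by
  refine (eq_zero_iff_stalk _).2 fun p => LinearMap.ext fun z => ?_
  show stalkLin (ClSub.idealModι (A * B) ≫ ClSub.toSubscheme A) p z = 0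
  rw [comp_apply]
  obtain ⟨c, hc⟩ := (bijective_oneG p).2 (stalkLin (ClSub.idealModι (A * B)) p z)
  have hmem : c ∈ IntMult.stalkIdeal A p := by
    have h1 : c ∈ IntMult.stalkIdeal (A * B) p := (HilbObsLib.mem_range_idealModι _ p c).1 ⟨z, hc.symm⟩
    obtain ⟨_, ⟨V, hV, rfl⟩, hpV, -⟩ := X.isBasis_affineOpens.exists_subset_of_mem_open (Set.mem_univ p) isOpen_univ
    rw [IdealStalkLib.stalkIdeal_eq _ ⟨V, hV⟩ p hpV] at h1 ⊢
    rw [Scheme.IdealSheafData.ideal_mul, Pi.mul_apply] at h1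
    exact Ideal.map_mono Ideal.mul_le_left h1
  obtain ⟨w, hw⟩ := (HilbObsLib.mem_range_idealModι A p c).2 hmem
  rw [← hc, show (fun r : X.presheaf.stalk p => r • oneG p) c = _ from hw.symm, ← comp_apply]
  rw [show ClSub.idealModι A ≫ ClSub.toSubscheme A = 0 from kernel.condition _, zero_apply]

/-- The inclusion of `A B` in `A`. -/
def idealMulLe : ClSub.idealMod (A * B) ⟶ ClSub.idealMod A :=
  kernel.lift _ (ClSub.idealModι (A * B)) (idealMul_ι_comp A B)

theorem idealMulLe_ι : idealMulLe A B ≫ ClSub.idealModι A = ClSub.idealModι (A * B) :=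
  kernel.lift_ι _ _ _

theorem idealSect_idealMulLe (V : X.Opens) (t : Γ(ClSub.idealMod (A * B), V)) :
    OmegaSh.idealSect A V ((idealMulLe A B).app V t) = OmegaSh.idealSect (A * B) V t := by
  show OmegaSh.fnSect X V ((ClSub.idealModι A).app V ((idealMulLe A B).app V t)) = _
  exact congrArg (fun f => OmegaSh.fnSect X V (f.app V t)) (idealMulLe_ι A B)

theorem idealMulLe_injective (V : X.Opens) : Function.Injective ((idealMulLe A B).app V) := fun s t h =>
  OmegaAffLib.idealSect_injective (A * B) V (by rw [← idealSect_idealMulLe, ← idealSect_idealMulLe, h])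

variable {A B} {V : X.affineOpens} {x : Γ(X, V.1)}

theorem idealSect_regular (hx : x ∈ nonZeroDivisors Γ(X, V.1)) :
    IsSMulRegular Γ(ClSub.idealMod A, V.1) x := fun s t h => by
  refine OmegaAffLib.idealSect_injective A V.1 ((mul_cancel_left_mem_nonZeroDivisors hx).1 ?_)
  rw [← OmegaAffLib.idealSect_smul, ← OmegaAffLib.idealSect_smul]
  exact congrArg _ h

theorem idealMulLe_div (hB : B.ideal V = Ideal.span {x}) (t : Γ(ClSub.idealMod (A * B), V.1)) :
    ∃ u, (idealMulLe A B).app V.1 t = x • u := by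
  have h : OmegaSh.idealSect (A * B) V.1 t ∈ (A * B).ideal V := (OmegaAffLib.mem_range_idealSect _ V _).2 ⟨t, rfl⟩
  rw [Scheme.IdealSheafData.ideal_mul, Pi.mul_apply, hB, Ideal.mem_mul_span_singleton] at h
  obtain ⟨a, ha, hat⟩ := h
  obtain ⟨u, hu⟩ := (OmegaAffLib.mem_range_idealSect A V a).1 ha
  refine ⟨u, OmegaAffLib.idealSect_injective A V.1 ?_⟩
  rw [idealSect_idealMulLe, OmegaAffLib.idealSect_smul, hu]
  exact hat.symm.trans (mul_comm a x)

theorem idealMulLe_surj (hB : B.ideal V = Ideal.span {x}) (u : Γ(ClSub.idealMod A, V.1)) :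
    ∃ t, (idealMulLe A B).app V.1 t = x • u := by
  have h : x * OmegaSh.idealSect A V.1 u ∈ (A * B).ideal V := by
    rw [Scheme.IdealSheafData.ideal_mul, Pi.mul_apply, hB, mul_comm x]
    exact Ideal.mul_mem_mul ((OmegaAffLib.mem_range_idealSect A V _).2 ⟨u, rfl⟩) (Ideal.mem_span_singleton_self x)
  obtain ⟨t, ht⟩ := (OmegaAffLib.mem_range_idealSect _ V _).1 h
  refine ⟨t, OmegaAffLib.idealSect_injective A V.1 ?_⟩
  rw [idealSect_idealMulLe, OmegaAffLib.idealSect_smul, ht]

end IdealSections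

section Sigma

variable {n : ℕ} (M : Fin n → X.Modules)

/-- A projection of a finite coproduct. -/
def proj (i : Fin n) : (∐ M) ⟶ M i :=
  Sigma.desc fun j => if h : j = i then eqToHom (congrArg M h) else 0

theorem ι_proj (i : Fin n) : Sigma.ι M i ≫ proj M i = 𝟙 _ := by simp [proj]

theorem ι_proj_ne {i j : Fin n} (h : j ≠ i) : Sigma.ι M j ≫ proj M i = 0 := by simp [proj, h]

/-- The sections of a finite coproduct on an open. -/
def sectEquiv (V : X.Opens) : Γ(∐ M, V) ≃ₗ[Γ(X, V)] ((i : Fin n) → Γ(M i, V)) :=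
  { toFun := fun e i => (proj M i).app V e
    map_add' := fun a b => funext fun i => map_add _ a b
    map_smul' := fun r a => funext fun i => Scheme.Modules.Hom.app_smul _ r a
    invFun := fun v => ∑ i, (Sigma.ι M i).app V (v i)
    left_inv := fun e => by
      have h : ∑ i, proj M i ≫ Sigma.ι M i = 𝟙 (∐ M) := Sigma.hom_ext _ _ fun j => by
        rw [Preadditive.comp_sum, Finset.sum_eq_single j, ← Category.assoc, ι_proj, Category.id_comp,
          Category.comp_id]
        · intro b _ hb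
          rw [← Category.assoc, ι_proj_ne M (Ne.symm hb), zero_comp]
        · exact fun h => absurd (Finset.mem_univ j) h
      have h2 : ∀ (s : Finset (Fin n)), (∑ i ∈ s, proj M i ≫ Sigma.ι M i).app V e =
          ∑ i ∈ s, (Sigma.ι M i).app V ((proj M i).app V e) := fun s => by
        induction s using Finset.induction with
        | empty => rfl
        | insert a s ha ih => rw [Finset.sum_insert ha, Finset.sum_insert ha, ← ih]; rfl
      exact (h2 Finset.univ).symm.trans (congrArg (fun f => f.app V e) h)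
    right_inv := fun v => funext fun i => by
      show (proj M i).app V (∑ j, (Sigma.ι M j).app V (v j)) = v i
      rw [map_sum, Finset.sum_eq_single i]
      · exact congrArg (fun f => f.app V (v i)) (ι_proj M i)
      · intro b _ hb
        exact congrArg (fun f => f.app V (v b)) (ι_proj_ne M hb)
      · exact fun h => absurd (Finset.mem_univ i) h }

variable (IY : Fin n → X.IdealSheafData) (ID : X.IdealSheafData)

/-- The inclusion of the twisted sum of ideals. -/
def incl : (∐ fun i => ClSub.idealMod (IY i * ID)) ⟶ ∐ fun i => ClSub.idealMod (IY i) :=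
  Sigma.desc fun i => idealMulLe (IY i) ID ≫ Sigma.ι (fun i => ClSub.idealMod (IY i)) i

theorem incl_desc : incl IY ID ≫ Sigma.desc (fun i => ClSub.idealModι (IY i)) =
    Sigma.desc fun i => ClSub.idealModι (IY i * ID) :=
  Sigma.hom_ext _ _ fun i => by simp [incl, idealMulLe_ι]

theorem proj_incl (i : Fin n) (V : X.Opens) (e : Γ(∐ fun i => ClSub.idealMod (IY i * ID), V)) :
    (proj (fun i => ClSub.idealMod (IY i)) i).app V ((incl IY ID).app V e) =
      (idealMulLe (IY i) ID).app V ((proj (fun i => ClSub.idealMod (IY i * ID)) i).app V e) := by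
  have h : incl IY ID ≫ proj (fun i => ClSub.idealMod (IY i)) i =
      proj (fun i => ClSub.idealMod (IY i * ID)) i ≫ idealMulLe (IY i) ID := Sigma.hom_ext _ _ fun j => by
    rw [incl, ← Category.assoc, Sigma.ι_desc, Category.assoc, ← Category.assoc (Sigma.ι _ j)]
    by_cases hj : j = i
    · subst hj
      rw [ι_proj, ι_proj, Category.id_comp, Category.comp_id]
    · rw [ι_proj_ne _ hj, ι_proj_ne _ hj, comp_zero, zero_comp]
  exact congrArg (fun f => f.app V e) h

variable {IY ID} {V : X.affineOpens} {x : Γ(X, V.1)}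

theorem exists_theta (hx : x ∈ nonZeroDivisors Γ(X, V.1)) (hD : ID.ideal V = Ideal.span {x}) :
    ∃ θ : Γ(∐ fun i => ClSub.idealMod (IY i * ID), V.1) ≃ₗ[Γ(X, V.1)] Γ(∐ fun i => ClSub.idealMod (IY i), V.1),
      ∀ e, (incl IY ID).app V.1 e = x • θ e := by
  let S := sectEquiv (fun i => ClSub.idealMod (IY i)) V.1
  let S' := sectEquiv (fun i => ClSub.idealMod (IY i * ID)) V.1
  have hc : ∀ i t, ∃ u, (idealMulLe (IY i) ID).app V.1 t = x • u := fun i t => idealMulLe_div hD t
  choose u hu using hc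
  have hreg : ∀ i, IsSMulRegular Γ(ClSub.idealMod (IY i), V.1) x := fun i => idealSect_regular hx
  have hadd : ∀ i a b, u i (a + b) = u i a + u i b := fun i a b => hreg i (by
    show x • _ = x • _
    rw [smul_add, ← hu, ← hu, ← hu, map_add])
  have hsm : ∀ i (r : Γ(X, V.1)) a, u i (r • a) = r • u i a := fun i r a => hreg i (by
    show x • _ = x • _
    rw [smul_comm, ← hu, ← hu, Scheme.Modules.Hom.app_smul])
  have hbij : ∀ i, Function.Bijective (u i) := fun i =>
    ⟨fun a b h => idealMulLe_injective _ _ _ (by rw [hu, hu, h]), fun w => by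
      obtain ⟨t, ht⟩ := idealMulLe_surj hD w
      exact ⟨t, hreg i ((hu i t).symm.trans ht)⟩⟩
  let U : ∀ i, Γ(ClSub.idealMod (IY i * ID), V.1) ≃ₗ[Γ(X, V.1)] Γ(ClSub.idealMod (IY i), V.1) := fun i =>
    LinearEquiv.ofBijective { toFun := u i, map_add' := hadd i, map_smul' := hsm i } (hbij i)
  refine ⟨S' ≪≫ₗ LinearEquiv.piCongrRight U ≪≫ₗ S.symm, fun e => S.injective ?_⟩
  rw [map_smul, LinearEquiv.trans_apply, LinearEquiv.trans_apply, LinearEquiv.apply_symm_apply]
  funext i
  exact (proj_incl IY ID i V.1 e).trans (hu i _)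

theorem free_sections (hY : ∀ i, IsPrin (IY i) V) :
    Module.Free Γ(X, V.1) Γ(∐ fun i => ClSub.idealMod (IY i), V.1) := by
  haveI : ∀ i, Module.Free Γ(X, V.1) Γ(ClSub.idealMod (IY i), V.1) := fun i => by
    obtain ⟨y, hy, hI⟩ := hY i
    obtain ⟨g, hg⟩ := (OmegaAffLib.mem_range_idealSect (IY i) V y).1 (hI ▸ Ideal.mem_span_singleton_self y)
    refine Module.Free.of_equiv (LinearEquiv.ofBijective (LinearMap.toSpanSingleton Γ(X, V.1) _ g) ⟨?_, ?_⟩)
    · intro a b h
      have h2 := congrArg (OmegaSh.idealSect (IY i) V.1) h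
      rw [LinearMap.toSpanSingleton_apply, LinearMap.toSpanSingleton_apply, OmegaAffLib.idealSect_smul,
        OmegaAffLib.idealSect_smul, hg] at h2
      exact (mul_cancel_right_mem_nonZeroDivisors hy).1 h2
    · intro t
      have h2 := (OmegaAffLib.mem_range_idealSect (IY i) V _).2 ⟨t, rfl⟩
      rw [hI, Ideal.mem_span_singleton'] at h2
      obtain ⟨a, ha⟩ := h2
      refine ⟨a, OmegaAffLib.idealSect_injective (IY i) V.1 ?_⟩
      rw [LinearMap.toSpanSingleton_apply, OmegaAffLib.idealSect_smul, hg]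
      exact ha
  exact Module.Free.of_equiv (sectEquiv (fun i => ClSub.idealMod (IY i)) V.1).symm

end Sigma

theorem map_smul_ιMulti {R M N : Type*} [CommRing R] [AddCommGroup M] [Module R M] [AddCommGroup N] [Module R N]
    (x : R) (θ : M →ₗ[R] N) (p : ℕ) (z : ↥(⋀[R]^p M)) :
    exteriorPower.map p (x • θ) z = x ^ p • exteriorPower.map p θ z := by
  induction z using extPow_induction p with
  | hι e =>
    rw [exteriorPower.map_apply_ιMulti, exteriorPower.map_apply_ιMulti]
    show exteriorPower.ιMulti R p (fun i => x • θ (e i)) = _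
    rw [AlternatingMap.map_smul_univ]
    simp [Function.comp_def]
  | h0 => simp
  | hadd a b ha hb => simp only [map_add, smul_add, ha, hb]
  | hsmul r a ha => simp only [map_smul, ha, smul_comm r]

/-- The data needed for the homology comparison. -/
theorem exists_twist_map {n : ℕ} (IY : Fin n → X.IdealSheafData) (hY : ∀ i, BlowUp.IsEffCartierIdeal (IY i))
    (ID : X.IdealSheafData) (hD : BlowUp.IsEffCartierIdeal ID)
    (C : KoszSh.Cx (∐ fun i => ClSub.idealMod (IY i)) (Limits.Sigma.desc fun i => ClSub.idealModι (IY i)))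
    (C' : KoszSh.Cx (∐ fun i => ClSub.idealMod (IY i * ID))
      (Limits.Sigma.desc fun i => ClSub.idealModι (IY i * ID))) :
    ∃ φ : C'.K ⟶ C.K, ∀ p : X, ∃ x : X.presheaf.stalk p, x ∈ nonZeroDivisors (X.presheaf.stalk p) ∧
      IntMult.stalkIdeal ID p = Ideal.span {x} ∧
      (∀ m, IsSMulRegular ((C.K.X m).presheaf.stalk p) x) ∧
      (∀ m, Function.Injective (stalkLin (φ.f m) p)) ∧
      ∀ m z, (∃ w, stalkLin (φ.f m) p w = z) ↔ ∃ v, z = x ^ m • v := by
  have hflf : ∀ (J : Fin n → X.IdealSheafData), (∀ i, BlowUp.IsEffCartierIdeal (J i)) →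
      FlatMod.IsFinLocFree (∐ fun i => ClSub.idealMod (J i)) := fun J hJ =>
    DCohLib.isFinLocFree_sigma n _ fun i => CurveLib.isFinLocFree_of_isInvertible ((S8914.result (J i)).2 (hJ i))
  obtain ⟨φ, hφ, -⟩ := S15900.result _ _ (hflf _ fun i => isEffCartier_mul (hY i) hD) (hflf _ hY) _ _
    (incl IY ID) (incl_desc IY ID) C' C
  refine ⟨φ, fun p => ?_⟩
  -- small charts
  have key : ∀ W : X.Opens, p ∈ W → ∃ (V : X.affineOpens) (x : Γ(X, V.1)), V.1 ≤ W ∧ p ∈ V.1 ∧
      x ∈ nonZeroDivisors Γ(X, V.1) ∧ ID.ideal V = Ideal.span {x} ∧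
      (∀ m, IsSMulRegular Γ(C.K.X m, V.1) x) ∧
      ∀ m, ∃ Θ : Γ(C'.K.X m, V.1) ≃ₗ[Γ(X, V.1)] Γ(C.K.X m, V.1), ∀ t, (φ.f m).app V.1 t = x ^ m • Θ t := by
    intro W hW
    obtain ⟨V, hVW, hpV, hV⟩ := exists_isPrin_all (Fin.cons (α := fun _ => X.IdealSheafData) ID IY)
      (Fin.cases (by simpa using hD) fun i => by simpa using hY i) p W hW
    have hVD : IsPrin ID V := hV 0
    obtain ⟨x, hx, hxI⟩ := hVD
    have hVY : ∀ i, IsPrin (IY i) V := fun i => hV i.succ
    haveI := free_sections hVY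
    obtain ⟨θ, hθ⟩ := exists_theta (IY := IY) hx hxI
    refine ⟨V, x, hVW, hpV, hx, hxI, fun m => ?_, fun m => ?_⟩
    · have h1 : IsSMulRegular ↥(⋀[Γ(X, V.1)]^m Γ(∐ fun i => ClSub.idealMod (IY i), V.1)) x :=
        fun a b h => (Module.Flat.isSMulRegular_of_nonZeroDivisors (M := ↥(⋀[Γ(X, V.1)]^m Γ(∐ fun i => ClSub.idealMod (IY i), V.1))) hx) h
      exact fun a b h => (C.loc m V).injective (h1 (by
        show x • _ = x • _
        rw [← map_smul, ← map_smul]; exact congrArg _ h))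
    · let e : ↥(⋀[Γ(X, V.1)]^m Γ(∐ fun i => ClSub.idealMod (IY i * ID), V.1)) ≃ₗ[Γ(X, V.1)]
          ↥(⋀[Γ(X, V.1)]^m Γ(∐ fun i => ClSub.idealMod (IY i), V.1)) :=
        LinearEquiv.ofLinearMap (exteriorPower.map m θ.toLinearMap) (exteriorPower.map m θ.symm.toLinearMap)
          (by rw [← exteriorPower.map_comp]; simp [exteriorPower.map_id])
          (by rw [← exteriorPower.map_comp]; simp [exteriorPower.map_id])
      refine ⟨C'.loc m V ≪≫ₗ e ≪≫ₗ (C.loc m V).symm, fun t => ?_⟩
      obtain ⟨z, rfl⟩ := (C'.loc m V).symm.surjective t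
      simp only [LinearEquiv.trans_apply, LinearEquiv.apply_symm_apply]
      rw [← map_smul]
      show _ = (C.loc m V).symm (x ^ m • exteriorPower.map m θ.toLinearMap z)
      rw [← map_smul_ιMulti]
      induction z using extPow_induction m with
      | hι f =>
        rw [exteriorPower.map_apply_ιMulti]
        refine (hφ m V f).trans (congrArg _ ?_)
        exact congrArg _ (funext fun j => hθ (f j))
      | h0 => simp
      | hadd a b ha hb => simp only [map_add, ha, hb]
      | hsmul r a ha => simp only [map_smul, Scheme.Modules.Hom.app_smul, ha]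
  obtain ⟨V₀, x₀, -, hpV₀, hx₀, hI₀, -, -⟩ := key ⊤ trivial
  let x := X.presheaf.germ V₀.1 p hpV₀ x₀
  have hx : x ∈ nonZeroDivisors (X.presheaf.stalk p) := BlowExistsLib.germ_mem_nonZeroDivisors V₀.2 p hpV₀ hx₀
  have hxI : IntMult.stalkIdeal ID p = Ideal.span {x} := by
    rw [IdealStalkLib.stalkIdeal_eq ID V₀ p hpV₀, hI₀, Ideal.map_span, Set.image_singleton]
  -- generators differ by units
  have hunit : ∀ (V : X.affineOpens) (x' : Γ(X, V.1)) (hp : p ∈ V.1), ID.ideal V = Ideal.span {x'} →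
      (∃ c, x = c * X.presheaf.germ V.1 p hp x') ∧ ∃ c, X.presheaf.germ V.1 p hp x' = c * x := by
    intro V x' hp h
    have h' : IntMult.stalkIdeal ID p = Ideal.span {X.presheaf.germ V.1 p hp x'} := by
      rw [IdealStalkLib.stalkIdeal_eq ID V p hp, h, Ideal.map_span, Set.image_singleton]
    constructor
    · obtain ⟨c, hc⟩ := Ideal.mem_span_singleton'.1 (h'.symm.trans hxI ▸ Ideal.mem_span_singleton_self x :
        x ∈ Ideal.span {X.presheaf.germ V.1 p hp x'})
      exact ⟨c, hc.symm⟩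
    · obtain ⟨c, hc⟩ := Ideal.mem_span_singleton'.1 (hxI.symm.trans h' ▸ Ideal.mem_span_singleton_self _ :
        X.presheaf.germ V.1 p hp x' ∈ Ideal.span {x})
      exact ⟨c, hc.symm⟩
  have hgs : ∀ (M : X.Modules) (V : X.Opens) (hp : p ∈ V) (r : Γ(X, V)) (t : Γ(M, V)),
      M.presheaf.germ V p hp (r • t) = X.presheaf.germ V p hp r • M.presheaf.germ V p hp t :=
    fun M V hp r t => PresheafOfModules.germ_smul (R := X.presheaf) M.val p V hp r t
  refine ⟨x, hx, hxI, fun m => ?_, fun m => ?_, fun m z => ⟨?_, ?_⟩⟩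
  · rw [isSMulRegular_iff_right_eq_zero_of_smul]
    intro z hz
    obtain ⟨W, hpW, t, rfl⟩ := TopCat.Presheaf.exists_germ_eq (C.K.X m).presheaf z
    obtain ⟨W', hW', i, i', h⟩ := TopCat.Presheaf.germ_eq (C.K.X m).presheaf p (U := W ⊓ V₀.1) ⟨hpW, hpV₀⟩ hpW
      (X.presheaf.map (homOfLE inf_le_right).op x₀ • (C.K.X m).presheaf.map (homOfLE inf_le_left).op t) 0 (by
        rw [hgs, TopCat.Presheaf.germ_res_apply, TopCat.Presheaf.germ_res_apply, map_zero]
        exact hz)
    obtain ⟨V, x', hVW, hpV, -, hI', hr, -⟩ := key W' hW'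
    obtain ⟨c, hc⟩ := (hunit V x' hpV hI').2
    rw [map_zero] at h
    have h2 := congrArg ((C.K.X m).presheaf.germ W' p hW') h
    rw [map_zero, TopCat.Presheaf.germ_res_apply, hgs, TopCat.Presheaf.germ_res_apply,
      TopCat.Presheaf.germ_res_apply] at h2
    let tV := (C.K.X m).presheaf.map (homOfLE ((hVW.trans i.le).trans inf_le_left)).op t
    have h3 : (C.K.X m).presheaf.germ V.1 p hpV (x' • tV) = 0 := by
      rw [hgs, TopCat.Presheaf.germ_res_apply, hc, mul_smul]
      show c • (x • _) = 0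
      rw [show x • (C.K.X m).presheaf.germ W p hpW t = 0 from h2, smul_zero]
    obtain ⟨W'', hW'', j, j', hj⟩ := TopCat.Presheaf.germ_eq (C.K.X m).presheaf p hpV hpV _ 0 (h3.trans (map_zero _).symm)
    obtain ⟨V', x'', hV'W, hpV', -, hI'', hr', -⟩ := key W'' hW''
    obtain ⟨c', hc'⟩ := (hunit V' x'' hpV' hI'').2
    rw [map_zero, Scheme.Modules.map_smul] at hj
    have h4 := congrArg ((C.K.X m).presheaf.map (homOfLE hV'W).op) hj
    rw [map_zero, Scheme.Modules.map_smul] at h4
    set y := X.presheaf.map (homOfLE hV'W).op (X.presheaf.map j.op x') with hy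
    have hspan : ID.ideal V' = Ideal.span {y} := by
      rw [← Scheme.IdealSheafData.map_ideal ID (show V'.1 ≤ V.1 from hV'W.trans j.le), hI', Ideal.map_span,
        Set.image_singleton, hy, ← ConcreteCategory.comp_apply, ← X.presheaf.map_comp]
      rfl
    obtain ⟨c'', hc''⟩ := Ideal.mem_span_singleton'.1 (hspan ▸ hI'' ▸ Ideal.mem_span_singleton_self x'' :
      x'' ∈ Ideal.span {y})
    set tV' := (C.K.X m).presheaf.map (homOfLE hV'W).op ((C.K.X m).presheaf.map j.op tV) with htV'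
    have h5 : tV' = 0 := (hr' m).right_eq_zero_of_smul
      (by rw [← hc'', mul_smul, h4, smul_zero])
    rw [← TopCat.Presheaf.germ_res_apply (C.K.X m).presheaf (homOfLE ((hVW.trans i.le).trans inf_le_left)) p hpV t]
    rw [← TopCat.Presheaf.germ_res_apply (C.K.X m).presheaf j p hW'' tV,
      ← TopCat.Presheaf.germ_res_apply (C.K.X m).presheaf (homOfLE hV'W) p hpV', ← htV', h5, map_zero]
  · refine (injective_iff_map_eq_zero _).2 fun z hz => ?_
    obtain ⟨W, hpW, t, rfl⟩ := TopCat.Presheaf.exists_germ_eq (C'.K.X m).presheaf z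
    rw [stalkLin_germ] at hz
    obtain ⟨W', hW', i, i', h⟩ := TopCat.Presheaf.germ_eq (C.K.X m).presheaf p hpW hpW _ 0 (hz.trans (map_zero _).symm)
    obtain ⟨V, x', hVW, hpV, -, -, hr, hΘ⟩ := key W' hW'
    obtain ⟨Θ, hΘ⟩ := hΘ m
    rw [map_zero] at h
    have h1 := congrArg ((C.K.X m).presheaf.map (homOfLE hVW).op) h
    rw [map_zero, ← ConcreteCategory.comp_apply, ← (C.K.X m).presheaf.map_comp] at h1
    set tV := (C'.K.X m).presheaf.map (homOfLE (hVW.trans i.le)).op t with htV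
    have h2 : (φ.f m).app V.1 tV = 0 := (app_res (φ.f m) (hVW.trans i.le) t).trans h1
    rw [hΘ] at h2
    have h3 := ((hr m).pow m).right_eq_zero_of_smul h2
    rw [Θ.map_eq_zero_iff] at h3
    rw [← TopCat.Presheaf.germ_res_apply (C'.K.X m).presheaf (homOfLE (hVW.trans i.le)) p hpV t, ← htV, h3, map_zero]
  · rintro ⟨w, rfl⟩
    obtain ⟨W, hpW, t, rfl⟩ := TopCat.Presheaf.exists_germ_eq (C'.K.X m).presheaf w
    obtain ⟨V, x', hVW, hpV, -, hI', -, hΘ⟩ := key W hpW
    obtain ⟨Θ, hΘ⟩ := hΘ m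
    obtain ⟨c, hc⟩ := (hunit V x' hpV hI').2
    rw [← TopCat.Presheaf.germ_res_apply (C'.K.X m).presheaf (homOfLE hVW) p hpV t, stalkLin_germ, hΘ, hgs,
      map_pow, hc, mul_pow, mul_comm, mul_smul]
    exact ⟨_, rfl⟩
  · rintro ⟨v, rfl⟩
    obtain ⟨W, hpW, t, rfl⟩ := TopCat.Presheaf.exists_germ_eq (C.K.X m).presheaf v
    obtain ⟨V, x', hVW, hpV, -, hI', -, hΘ⟩ := key W hpW
    obtain ⟨Θ, hΘ⟩ := hΘ m
    obtain ⟨c, hc⟩ := (hunit V x' hpV hI').1
    refine ⟨c ^ m • (C'.K.X m).presheaf.germ V.1 p hpV (Θ.symm ((C.K.X m).presheaf.map (homOfLE hVW).op t)), ?_⟩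
    rw [map_smul, stalkLin_germ, hΘ, Θ.apply_symm_apply, hgs, map_pow, TopCat.Presheaf.germ_res_apply, smul_smul,
      ← mul_pow, ← hc]

end Groth.Agent.KoszTwistLib

namespace Groth.Agent.KoszTwistLib

open CategoryTheory AlgebraicGeometry TopologicalSpace Opposite Groth.Agent.DCohLib Groth.Agent.PullbackMod in
/-- Regularity on affine sections gives regularity on stalks. -/
theorem isSMulRegular_stalk {X : Scheme.{u}} (ID : X.IdealSheafData) (hD : BlowUp.IsEffCartierIdeal ID)
    (H : X.Modules)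
    (hreg : ∀ (U : X.affineOpens) (x : Γ(X, U.1)), x ∈ nonZeroDivisors Γ(X, U.1) → ID.ideal U = Ideal.span {x} →
      IsSMulRegular Γ(H, U.1) x)
    (p : X) (x : X.presheaf.stalk p) (hxI : IntMult.stalkIdeal ID p = Ideal.span {x}) :
    IsSMulRegular (H.presheaf.stalk p) x := by
  obtain ⟨U, hpU, x₀, hx₀, hI₀⟩ := hD p
  have hx₀' : IntMult.stalkIdeal ID p = Ideal.span {X.presheaf.germ U.1 p hpU x₀} := by
    rw [IdealStalkLib.stalkIdeal_eq ID U p hpU, hI₀, Ideal.map_span, Set.image_singleton]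
  obtain ⟨c, hc⟩ := Ideal.mem_span_singleton'.1 (hxI.symm.trans hx₀' ▸ Ideal.mem_span_singleton_self _ :
    X.presheaf.germ U.1 p hpU x₀ ∈ Ideal.span {x})
  rw [isSMulRegular_iff_right_eq_zero_of_smul]
  intro z hz
  have hz₀ : X.presheaf.germ U.1 p hpU x₀ • z = 0 := by rw [← hc, mul_smul, hz, smul_zero]
  obtain ⟨W, hpW, t, rfl⟩ := TopCat.Presheaf.exists_germ_eq H.presheaf z
  obtain ⟨W', hW', i, i', h⟩ := TopCat.Presheaf.germ_eq H.presheaf p (U := W ⊓ U.1) ⟨hpW, hpU⟩ hpW
    (X.presheaf.map (homOfLE inf_le_right).op x₀ • H.presheaf.map (homOfLE inf_le_left).op t) 0 (by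
      refine Eq.trans ?_ (map_zero _).symm
      refine (PresheafOfModules.germ_smul (R := X.presheaf) H.val p _ _ _ _).trans ?_
      rw [TopCat.Presheaf.germ_res_apply, ← hz₀]
      exact congrArg _ (TopCat.Presheaf.germ_res_apply H.presheaf _ _ _ t))
  obtain ⟨r, hr, hpr⟩ := U.2.exists_basicOpen_le (V := W') ⟨p, hW'⟩ hpU
  obtain ⟨f, hf, hfI⟩ := RelDivLib.generator_res ID U r hx₀ hI₀
  let V : X.affineOpens := X.affineBasicOpen (U := U) r
  rw [map_zero, Scheme.Modules.map_smul] at h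
  have h4 := congrArg (H.presheaf.map (homOfLE hr).op) h
  rw [map_zero, Scheme.Modules.map_smul] at h4
  set y := X.presheaf.map (homOfLE hr).op (X.presheaf.map i.op (X.presheaf.map (homOfLE inf_le_right).op x₀)) with hy
  have hspan : ID.ideal V = Ideal.span {y} := by
    rw [← Scheme.IdealSheafData.map_ideal ID (show V.1 ≤ U.1 from X.basicOpen_le r), hI₀, Ideal.map_span,
      Set.image_singleton, hy, ← ConcreteCategory.comp_apply, ← ConcreteCategory.comp_apply,
      ← X.presheaf.map_comp, ← X.presheaf.map_comp]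
    rfl
  have hy' : y ∈ nonZeroDivisors Γ(X, V.1) := by
    obtain ⟨d, hd⟩ := Ideal.mem_span_singleton'.1 (hspan.symm.trans hfI ▸ Ideal.mem_span_singleton_self y :
      y ∈ Ideal.span {f})
    obtain ⟨d', hd'⟩ := Ideal.mem_span_singleton'.1 (hfI.symm.trans hspan ▸ Ideal.mem_span_singleton_self f :
      f ∈ Ideal.span {y})
    refine mem_nonZeroDivisors_iff_right.2 fun w hw => ?_
    refine (mem_nonZeroDivisors_iff_right.1 hf) w ?_
    rw [← hd', mul_left_comm, hw, mul_zero]
  have h5 := (hreg V y hy' hspan).right_eq_zero_of_smul h4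
  rw [← TopCat.Presheaf.germ_res_apply H.presheaf (homOfLE inf_le_left) p (U := W ⊓ U.1) ⟨hpW, hpU⟩ t,
    ← TopCat.Presheaf.germ_res_apply H.presheaf i p hW',
    ← TopCat.Presheaf.germ_res_apply H.presheaf (homOfLE hr) p hpr]
  rw [h5, map_zero]

end Groth.Agent.KoszTwistLib
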