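import Groth.Agent.KoszTwistLib.Basic

/-!
# Homology of a subcomplex equal to `x^n` times a complex
-/

set_option autoImplicit false
set_option backward.isDefEq.respectTransparency false
set_option linter.style.haveILetI false
set_option maxHeartbeats 1600000

universe u

open CategoryTheory CategoryTheory.Limits AlgebraicGeometry TopologicalSpace Opposite
open Groth.Agent.DCohLib Groth.Agent.PullbackMod Groth.Agent.ParaFLib

noncomputable section

namespace Groth.Agent.KoszTwistLib

variable {X : Scheme.{u}} (I : X.IdealSheafData)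

/-- The corner of the cartesian square. -/
abbrev corner (K : ChainComplex X.Modules ℕ) (q : ℕ) : X.Modules :=
  pullback ((Scheme.Modules.pullback I.subschemeι ⋙ Scheme.Modules.pushforward I.subschemeι).map (K.homologyπ q))
    (resMap I (K.homology q))

/-- The map from the cycles to the corner. -/
def toCorner (K : ChainComplex X.Modules ℕ) (q : ℕ) : K.cycles q ⟶ corner I K q :=
  pullback.lift (resMap I (K.cycles q)) (K.homologyπ q)
    ((Scheme.Modules.pullbackPushforwardAdjunction I.subschemeι).unit.naturality (K.homologyπ q)).symm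

theorem nonempty_homology_iso {K K' : ChainComplex X.Modules ℕ} (φ : K' ⟶ K)
    (hloc : ∀ p : X, ∃ x : X.presheaf.stalk p, x ∈ nonZeroDivisors (X.presheaf.stalk p) ∧
      IntMult.stalkIdeal I p = Ideal.span {x} ∧
      (∀ n, IsSMulRegular ((K.X n).presheaf.stalk p) x) ∧
      (∀ n, Function.Injective (stalkLin (φ.f n) p)) ∧
      ∀ n z, (∃ w, stalkLin (φ.f n) p w = z) ↔ ∃ v, z = x ^ n • v)
    (q : ℕ)
    (hreg : ∀ (p : X) (x : X.presheaf.stalk p), x ∈ nonZeroDivisors (X.presheaf.stalk p) →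
      IntMult.stalkIdeal I p = Ideal.span {x} → IsSMulRegular ((K.homology q).presheaf.stalk p) x) :
    Nonempty (K'.homology q ≅
      CohB1.tensorMod (corner I K q) (CohB1.tensorPow (ClSub.idealMod I) q)) := by
  classical
  let ι := ClSub.idealModι I
  let N := CohB1.tensorPow (ClSub.idealMod I) q
  let Z := K.cycles q
  let μ : CohB1.tensorMod Z N ⟶ K.X q := mulPow ι Z q ≫ K.iCycles q
  -- pointwise description of the multiplication
  have hpt : ∀ p : X, ∃ (x : X.presheaf.stalk p) (g : N.presheaf.stalk p),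
      x ∈ nonZeroDivisors (X.presheaf.stalk p) ∧ IntMult.stalkIdeal I p = Ideal.span {x} ∧
      (∀ n, IsSMulRegular ((K.X n).presheaf.stalk p) x) ∧
      (∀ n, Function.Injective (stalkLin (φ.f n) p)) ∧
      (∀ n z, (∃ w, stalkLin (φ.f n) p w = z) ↔ ∃ v, z = x ^ n • v) ∧
      KoszTwLib.IsGen N p g ∧
      ∀ a : Z.presheaf.stalk p, stalkLin μ p (germMul p a g) = x ^ q • stalkLin (K.iCycles q) p a := by
    intro p
    obtain ⟨x, hnz, hx, h1, h2, h3⟩ := hloc p
    obtain ⟨g₁, hg₁, hι⟩ := exists_gen_idealMod p I hx hnz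
    obtain ⟨g, hg, hgq⟩ := exists_gen_powι p ι hg₁ hι q
    refine ⟨x, g, hnz, hx, h1, h2, h3, hg, fun a => ?_⟩
    show stalkLin (mulPow ι Z q ≫ K.iCycles q) p _ = _
    rw [comp_apply, mulPow_germMul p ι q hgq, map_smul]
  haveI : Mono μ := by
    refine (mono_iff_stalk μ).2 fun p => ?_
    obtain ⟨x, g, -, -, h1, -, -, hg, hμ⟩ := hpt p
    intro a b h
    obtain ⟨a', rfl⟩ := (KoszTwLib.germMul_bijective (M := Z) hg).2 a
    obtain ⟨b', rfl⟩ := (KoszTwLib.germMul_bijective (M := Z) hg).2 b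
    dsimp only at h ⊢
    rw [hμ, hμ] at h
    rw [iCycles_injective K q p (((h1 q).pow q) h)]
  let l : K'.cycles q ⟶ K.X q := K'.iCycles q ≫ φ.f q
  have comm : ∀ (p : X) (i j : ℕ) (v : (K'.X i).presheaf.stalk p),
      stalkLin (K.d i j) p (stalkLin (φ.f i) p v) = stalkLin (φ.f j) p (stalkLin (K'.d i j) p v) := fun p i j v => by
    rw [← comp_apply, ← comp_apply, φ.comm]
  have dcyc : ∀ (C : ChainComplex X.Modules ℕ) (p : X) (i j : ℕ) (z : (C.cycles i).presheaf.stalk p),
      stalkLin (C.d i j) p (stalkLin (C.iCycles i) p z) = 0 := fun C p i j z => by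
    rw [← comp_apply, HomologicalComplex.iCycles_d, zero_apply]
  have toC : ∀ (C : ChainComplex X.Modules ℕ) (p : X) (i j : ℕ) (w : (C.X i).presheaf.stalk p),
      stalkLin (C.iCycles j) p (stalkLin (C.toCycles i j) p w) = stalkLin (C.d i j) p w := fun C p i j w => by
    rw [← comp_apply, HomologicalComplex.toCycles_i]
  have hl : l ≫ cokernel.π μ = 0 := by
    refine (eq_zero_iff_stalk _).2 fun p => LinearMap.ext fun z => ?_
    obtain ⟨x, g, -, -, h1, -, h3, -, hμ⟩ := hpt p
    obtain ⟨v, hv⟩ := (h3 q _).1 ⟨stalkLin (K'.iCycles q) p z, rfl⟩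
    have hdv : stalkLin (K.d q ((ComplexShape.down ℕ).next q)) p v = 0 := by
      refine ((h1 _).pow q) ?_
      show x ^ q • _ = x ^ q • (0 : (K.X _).presheaf.stalk p)
      rw [smul_zero, ← map_smul, ← hv, comm, dcyc, map_zero]
    obtain ⟨a, ha⟩ := iCycles_exists K q p rfl hdv
    have hlz : stalkLin l p z = stalkLin μ p (germMul p a g) := by
      rw [hμ, ha, ← hv]
      exact comp_apply _ _ p z
    show stalkLin (l ≫ cokernel.π μ) p z = 0
    rw [comp_apply, hlz, ← comp_apply, cokernel.condition, zero_apply]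
  let σ : K'.cycles q ⟶ CohB1.tensorMod Z N := Abelian.monoLift μ l hl
  have hσ : ∀ (p : X) (z : (K'.cycles q).presheaf.stalk p),
      stalkLin μ p (stalkLin σ p z) = stalkLin (φ.f q) p (stalkLin (K'.iCycles q) p z) := fun p z => by
    rw [← comp_apply, Abelian.monoLift_comp]
    exact comp_apply _ _ p z
  let ρ : K'.cycles q ⟶ CohB1.tensorMod (corner I K q) N := σ ≫ KoszTw.tensorMap (toCorner I K q) (𝟙 N)
  have hρg : ∀ (p : X) (z : (K'.cycles q).presheaf.stalk p) (a : Z.presheaf.stalk p) (g : N.presheaf.stalk p),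
      stalkLin σ p z = germMul p a g → stalkLin ρ p z = germMul p (stalkLin (toCorner I K q) p a) g := by
    intro p z a g h
    show stalkLin (σ ≫ KoszTw.tensorMap (toCorner I K q) (𝟙 N)) p z = _
    rw [comp_apply, h]
    refine (tensorMap_germMul p _ _ a g).trans ?_
    rw [stalkLin_id]
    rfl
  have fst_toCorner : ∀ (p : X) (a : Z.presheaf.stalk p),
      stalkLin (pullback.fst _ _) p (stalkLin (toCorner I K q) p a) = stalkLin (resMap I (K.cycles q)) p a :=
    fun p a => by rw [← comp_apply, toCorner, pullback.lift_fst]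
  have snd_toCorner : ∀ (p : X) (a : Z.presheaf.stalk p),
      stalkLin (pullback.snd _ _) p (stalkLin (toCorner I K q) p a) = stalkLin (K.homologyπ q) p a :=
    fun p a => by rw [← comp_apply, toCorner, pullback.lift_snd]
  have hnat : ∀ (p : X) (a : Z.presheaf.stalk p),
      stalkLin ((Scheme.Modules.pullback I.subschemeι ⋙ Scheme.Modules.pushforward I.subschemeι).map (K.homologyπ q)) p
        (stalkLin (resMap I (K.cycles q)) p a) = stalkLin (resMap I (K.homology q)) p (stalkLin (K.homologyπ q) p a) :=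
    fun p a => by
    rw [← comp_apply, ← comp_apply]
    exact congrArg (fun f => stalkLin f p a)
      ((Scheme.Modules.pullbackPushforwardAdjunction I.subschemeι).unit.naturality (K.homologyπ q)).symm
  have hkill : K'.toCycles (q + 1) q ≫ ρ = 0 := by
    refine (eq_zero_iff_stalk _).2 fun p => LinearMap.ext fun w => ?_
    obtain ⟨x, g, -, hx, h1, -, h3, hg, hμ⟩ := hpt p
    show stalkLin (K'.toCycles (q + 1) q ≫ ρ) p w = 0
    rw [comp_apply]
    obtain ⟨a, ha⟩ := (KoszTwLib.germMul_bijective (M := Z) hg).2 (stalkLin σ p (stalkLin (K'.toCycles (q + 1) q) p w))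
    obtain ⟨v, hv⟩ := (h3 (q + 1) _).1 ⟨w, rfl⟩
    have e1 := hσ p (stalkLin (K'.toCycles (q + 1) q) p w)
    rw [← ha, hμ, toC, ← comm, hv, map_smul] at e1
    have ha' : a = x • stalkLin (K.toCycles (q + 1) q) p v := by
      refine iCycles_injective K q p (((h1 q).pow q) ?_)
      show x ^ q • _ = x ^ q • _
      rw [e1, map_smul, toC, smul_smul, pow_succ]
    rw [hρg p _ a g ha.symm]
    have : stalkLin (toCorner I K q) p a = 0 := by
      refine pullback_ext _ _ p ?_ ?_
      · rw [fst_toCorner, map_zero, resMap_eq_zero_iff_smul hx]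
        exact ⟨_, ha'⟩
      · rw [snd_toCorner, map_zero, ha', map_smul, (homologyπ_eq_zero_iff K q p).2 ⟨v, rfl⟩, smul_zero]
    rw [this]
    have h := (germMul_smul p (0 : X.presheaf.stalk p) (0 : (corner I K q).presheaf.stalk p) g).1
    rw [zero_smul, zero_smul] at h
    exact h
  let ψ : K'.homology q ⟶ CohB1.tensorMod (corner I K q) N :=
    (K'.homologyIsCokernel (q + 1) q (ChainComplex.prev ℕ q)).desc (CokernelCofork.ofπ ρ hkill)
  have hψ : K'.homologyπ q ≫ ψ = ρ :=
    (K'.homologyIsCokernel (q + 1) q (ChainComplex.prev ℕ q)).fac (CokernelCofork.ofπ ρ hkill) WalkingParallelPair.one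
  suffices h : IsIso ψ from ⟨@asIso _ _ _ _ ψ h⟩
  refine (isIso_iff_stalk ψ).2 fun p => ?_
  obtain ⟨x, g, hnz, hx, h1, h2, h3, hg, hμ⟩ := hpt p
  have hx' := hreg p x hnz hx
  constructor
  · refine (injective_iff_map_eq_zero _).2 fun h hh => ?_
    obtain ⟨z, rfl⟩ := homologyπ_surjective K' q p h
    rw [← comp_apply, hψ] at hh
    obtain ⟨a, ha⟩ := (KoszTwLib.germMul_bijective (M := Z) hg).2 (stalkLin σ p z)
    rw [hρg p z a g ha.symm] at hh
    have hκ : stalkLin (toCorner I K q) p a = 0 := by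
      refine (KoszTwLib.germMul_bijective (M := corner I K q) hg).1 ?_
      have h0 := (germMul_smul p (0 : X.presheaf.stalk p) (0 : (corner I K q).presheaf.stalk p) g).1
      rw [zero_smul, zero_smul] at h0
      exact hh.trans h0.symm
    obtain ⟨u, hu⟩ := (resMap_eq_zero_iff_smul hx a).1 (by rw [← fst_toCorner, hκ, map_zero])
    have hπa : stalkLin (K.homologyπ q) p a = 0 := by rw [← snd_toCorner, hκ, map_zero]
    rw [hu, map_smul] at hπa
    obtain ⟨w, hw⟩ := (homologyπ_eq_zero_iff K q p).1 (hx'.right_eq_zero_of_smul hπa)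
    obtain ⟨w', hw'⟩ := (h3 (q + 1) _).2 ⟨w, rfl⟩
    refine (homologyπ_eq_zero_iff K' q p).2 ⟨w', iCycles_injective K' q p (h2 q ?_)⟩
    rw [toC, ← comm, hw', map_smul, ← hσ, ← ha, hμ, hu, map_smul, ← hw, toC, smul_smul, pow_succ]
  · intro t
    obtain ⟨c, rfl⟩ := (KoszTwLib.germMul_bijective (M := corner I K q) hg).2 t
    obtain ⟨z₁, hz₁⟩ := resMap_surjective I (K.cycles q) p (stalkLin (pullback.fst _ _) p c)
    obtain ⟨z₂, hz₂⟩ := homologyπ_surjective K q p (stalkLin (pullback.snd _ _) p c)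
    have h0 : stalkLin (resMap I (K.homology q)) p (stalkLin (K.homologyπ q) p (z₁ - z₂)) = 0 := by
      rw [map_sub, map_sub, sub_eq_zero, ← hnat, hz₁, hz₂, ← comp_apply, ← comp_apply, pullback.condition]
    obtain ⟨m, hm⟩ := (resMap_eq_zero_iff_smul hx _).1 h0
    obtain ⟨m', rfl⟩ := homologyπ_surjective K q p m
    let a := z₁ - x • m'
    have ha : stalkLin (toCorner I K q) p a = c := by
      refine pullback_ext _ _ p ?_ ?_
      · rw [fst_toCorner, map_sub, (resMap_eq_zero_iff_smul hx (x • m')).2 ⟨m', rfl⟩, sub_zero, hz₁]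
      · rw [snd_toCorner, map_sub, map_smul, ← hm, map_sub, sub_sub_cancel, hz₂]
    obtain ⟨v, hv⟩ := (h3 q (x ^ q • stalkLin (K.iCycles q) p a)).2 ⟨_, rfl⟩
    have hdv : stalkLin (K'.d q ((ComplexShape.down ℕ).next q)) p v = 0 := by
      refine h2 _ ?_
      rw [map_zero, ← comm, hv, map_smul, dcyc, smul_zero]
    obtain ⟨z, hz⟩ := iCycles_exists K' q p rfl hdv
    refine ⟨stalkLin (K'.homologyπ q) p z, ?_⟩
    rw [← comp_apply, hψ, hρg p z a g ((mono_iff_stalk μ).1 inferInstance p (by rw [hσ, hz, hv, hμ])), ha]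

end Groth.Agent.KoszTwistLib
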